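import Cfsg.Agent.H792.SpTool
import Cfsg.Agent.Lib.Cores

/-!
# Strongly closed subgroups of Sylow subgroups of order `p ^ 3` (helper792)

* `nfus_of_card_cube` : `|S| = p ^ 3`, `Z(S)` of order `p` strongly closed in `S`: `N_G(S)` controls fusion in `S`;
* `NormP p G` : if `S` has a nontrivial proper strongly closed subgroup then `S` is normal in the fusion system of `G`;
* `normP_of_cube` : `|S| = p ^ 3`, `S` nonabelian, no subgroup of `S` of order `p²` is `N_G(S)`-invariant: `NormP p G`.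
-/

set_option autoImplicit false

namespace Cfsg.Agent.H792.SpCube

open Subgroup Cfsg Cfsg.Agent.H749 Cfsg.Agent.H792.SpTool
open scoped commutatorElement

variable {p : ℕ} [hp : Fact p.Prime] {G : Type*} [Group G] [Finite G]

/-- A central strongly closed subgroup `T`: its normaliser controls fusion. -/
theorem exists_mem_normalizer (S : Sylow p G) {T : Subgroup G} (hT : IsStronglyClosed T (S : Subgroup G))
    (hTZ : T ≤ centralizer ((S : Subgroup G) : Set G)) {B : Subgroup G} (hB : B ≤ (S : Subgroup G)) {g : G}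
    (hg : ∀ x ∈ B, g * x * g⁻¹ ∈ (S : Subgroup G)) :
    ∃ n ∈ normalizer (T : Set G), ∀ x ∈ B, n * x * n⁻¹ = g * x * g⁻¹ := by
  -- `T` and `g⁻¹ T g` centralize `B`
  let C := centralizer (B : Set G)
  have h1 : T ≤ C := fun t ht => mem_centralizer_iff.2 fun b hb => (mem_centralizer_iff.1 (hTZ ht)) b (hB hb)
  have h2 : T.map (MulAut.conj g⁻¹).toMonoidHom ≤ C := by
    rintro _ ⟨t, ht, rfl⟩
    refine mem_centralizer_iff.2 fun b hb => ?_
    have h3 := (mem_centralizer_iff.1 (hTZ ht)) _ (hg b hb)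
    show b * (g⁻¹ * t * g⁻¹⁻¹) = (g⁻¹ * t * g⁻¹⁻¹) * b
    calc b * (g⁻¹ * t * g⁻¹⁻¹) = g⁻¹ * ((g * b * g⁻¹) * t) * g := by group
      _ = g⁻¹ * (t * (g * b * g⁻¹)) * g := by rw [h3]
      _ = _ := by group
  have hTp : IsPGroup p T := S.2.to_le hT.1
  have hT1 : IsPGroup p (T.subgroupOf C) := hTp.comap_of_injective C.subtype C.subtype_injective
  have hT2 : IsPGroup p ((T.map (MulAut.conj g⁻¹).toMonoidHom).subgroupOf C) :=
    (hTp.map _).comap_of_injective C.subtype C.subtype_injective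
  obtain ⟨P1, hP1⟩ := hT1.exists_le_sylow
  obtain ⟨c, hc⟩ := ClosedTwo.Elem.exists_conj_le P1 hT2
  -- `P1` is contained in a conjugate of `S`
  obtain ⟨h, hh⟩ := ClosedTwo.Elem.exists_conj_le S (P1.2.map C.subtype)
  have key : ∀ x : G, (∃ t ∈ T, ∃ k : G, k * t * k⁻¹ = x) → x ∈ (P1 : Subgroup C).map C.subtype → h * x * h⁻¹ ∈ T := by
    rintro x ⟨t, ht, k, rfl⟩ hx
    have h3 := hT.2 t ht (h * k) (by
      have := hh _ hx
      rwa [show h * k * t * (h * k)⁻¹ = h * (k * t * k⁻¹) * h⁻¹ by group])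
    rwa [show h * k * t * (h * k)⁻¹ = h * (k * t * k⁻¹) * h⁻¹ by group] at h3
  -- `h` normalises `T`
  have hhT : ∀ t ∈ T, h * t * h⁻¹ ∈ T := fun t ht =>
    key t ⟨t, ht, 1, by group⟩ ⟨⟨t, h1 ht⟩, hP1 ht, rfl⟩
  have hhc : ∀ t ∈ T, h * ((c : G) * (g⁻¹ * t * g) * (c : G)⁻¹) * h⁻¹ ∈ T := by
    intro t ht
    refine key _ ⟨t, ht, (c : G) * g⁻¹, by group⟩ ?_
    have h3 : g⁻¹ * t * g ∈ T.map (MulAut.conj g⁻¹).toMonoidHom := ⟨t, ht, by
      show g⁻¹ * t * g⁻¹⁻¹ = _; group⟩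
    exact ⟨_, hc ⟨g⁻¹ * t * g, h2 h3⟩ h3, rfl⟩
  have hn1 : h ∈ normalizer (T : Set G) := Transfer.FusionBasic.mem_normalizer_of_conj_mem hhT
  have hn2 : h * ((c : G) * g⁻¹) ∈ normalizer (T : Set G) :=
    Transfer.FusionBasic.mem_normalizer_of_conj_mem fun t ht => by
      have := hhc t ht
      rwa [show h * ((c : G) * (g⁻¹ * t * g) * (c : G)⁻¹) * h⁻¹ =
        h * ((c : G) * g⁻¹) * t * (h * ((c : G) * g⁻¹))⁻¹ by group] at this
  have hn3 : g * (c : G)⁻¹ ∈ normalizer (T : Set G) := by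
    have := mul_mem (inv_mem hn2) hn1
    rwa [show (h * ((c : G) * g⁻¹))⁻¹ * h = g * (c : G)⁻¹ by group] at this
  refine ⟨g * (c : G)⁻¹, hn3, fun x hx => ?_⟩
  have h3 : x * (c : G) = c * x := (mem_centralizer_iff.1 c.2) x hx
  calc g * (c : G)⁻¹ * x * (g * (c : G)⁻¹)⁻¹ = g * ((c : G)⁻¹ * (x * c)) * g⁻¹ := by group
    _ = g * ((c : G)⁻¹ * (c * x)) * g⁻¹ := by rw [h3]
    _ = _ := by group

/-- Correcting an element by the centralizer of `B2`. -/
theorem correct (S : Sylow p G) {B B2 : Subgroup G} {g : G} (hB2 : ∀ x ∈ B, g * x * g⁻¹ ∈ B2)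
    (hSB2 : (S : Subgroup G) ≤ normalizer (B2 : Set G))
    (hle : ∀ s ∈ (S : Subgroup G), ∃ r ∈ (S : Subgroup G), ∃ c ∈ centralizer (B2 : Set G), g * s * g⁻¹ = r * c) :
    ∃ n ∈ normalizer ((S : Subgroup G) : Set G), ∀ x ∈ B, n * x * n⁻¹ = g * x * g⁻¹ := by
  let C := centralizer (B2 : Set G)
  have hCn : (S : Subgroup G) ≤ normalizer (C : Set G) := by
    refine hSB2.trans fun k hk => Transfer.FusionBasic.mem_normalizer_of_conj_mem fun c hc => ?_
    refine mem_centralizer_iff.2 fun b hb => ?_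
    have h1 : k⁻¹ * b * k ∈ B2 := by
      have := (mem_normalizer_iff.1 (inv_mem hk) b).1 hb
      rwa [inv_inv] at this
    have h2 := (mem_centralizer_iff.1 hc) _ h1
    calc b * (k * c * k⁻¹) = k * ((k⁻¹ * b * k) * c) * k⁻¹ := by group
      _ = k * (c * (k⁻¹ * b * k)) * k⁻¹ := by rw [h2]
      _ = _ := by group
  let L := (S : Subgroup G) ⊔ C
  have hmemL : ∀ x : G, x ∈ L ↔ ∃ r ∈ (S : Subgroup G), ∃ c ∈ C, x = r * c := by
    intro x
    constructor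
    · intro hx
      have h1 : x ∈ ((L : Subgroup G) : Set G) := hx
      rw [Subgroup.coe_mul_of_left_le_normalizer_right _ _ hCn] at h1
      obtain ⟨r, hr, c, hc, e⟩ := h1
      exact ⟨r, hr, c, hc, e.symm⟩
    · rintro ⟨r, hr, c, hc, rfl⟩
      exact mul_mem (mem_sup_left hr) (mem_sup_right hc)
  have hgS : ∀ s ∈ (S : Subgroup G), g * s * g⁻¹ ∈ L := fun s hs => (hmemL _).2 (hle s hs)
  let PS : Sylow p L := S.subtype le_sup_left
  have hgSL : ((g • S : Sylow p G) : Subgroup G) ≤ L := by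
    rintro _ ⟨s, hs, rfl⟩
    exact hgS s hs
  let PG : Sylow p L := (g • S : Sylow p G).subtype hgSL
  obtain ⟨l, hl⟩ := MulAction.exists_smul_eq L PG PS
  obtain ⟨r, hr, c, hc, e⟩ := (hmemL l).1 l.2
  have hlS : ∀ s ∈ (S : Subgroup G), (l : G) * (g * s * g⁻¹) * (l : G)⁻¹ ∈ (S : Subgroup G) := by
    intro s hs
    have h1 : (⟨g * s * g⁻¹, hgS s hs⟩ : L) ∈ (PG : Subgroup L) := by
      show g * s * g⁻¹ ∈ ((g • S : Sylow p G) : Subgroup G)
      exact ⟨s, hs, rfl⟩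
    have h2 : l * ⟨g * s * g⁻¹, hgS s hs⟩ * l⁻¹ ∈ (PS : Subgroup L) := by
      rw [← hl, Sylow.coe_subgroup_smul]
      exact ⟨_, h1, rfl⟩
    exact h2
  have hcg : c * g ∈ normalizer ((S : Subgroup G) : Set G) := by
    refine Transfer.FusionBasic.mem_normalizer_of_conj_mem fun s hs => ?_
    have h1 := mul_mem (mul_mem (inv_mem hr) (hlS s hs)) hr
    rw [e] at h1
    rwa [show r⁻¹ * (r * c * (g * s * g⁻¹) * (r * c)⁻¹) * r = c * g * s * (c * g)⁻¹ by group] at h1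
  refine ⟨c * g, hcg, fun x hx => ?_⟩
  have h1 := (mem_centralizer_iff.1 hc) _ (hB2 x hx)
  calc c * g * x * (c * g)⁻¹ = (c * (g * x * g⁻¹)) * c⁻¹ := by group
    _ = ((g * x * g⁻¹) * c) * c⁻¹ := by rw [h1]
    _ = _ := by group

/-- **Sylow subgroups of order `p ^ 3`**, `T` central of order `p`, strongly closed. -/
theorem controls_of_card_cube (S : Sylow p G) (hS : Nat.card (S : Subgroup G) = p ^ 3) {T : Subgroup G}
    (hT : IsStronglyClosed T (S : Subgroup G)) (hTc : Nat.card T = p)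
    (hTZ : ∀ x : G, x ∈ T ↔ x ∈ (S : Subgroup G) ∧ ∀ s ∈ (S : Subgroup G), s * x = x * s)
    (hder : ∀ a ∈ (S : Subgroup G), ∀ b ∈ (S : Subgroup G), a * b * a⁻¹ * b⁻¹ ∈ T) {B : Subgroup G}
    (hB : B ≤ (S : Subgroup G)) {g : G} (hg : ∀ x ∈ B, g * x * g⁻¹ ∈ (S : Subgroup G)) :
    ∃ n ∈ normalizer ((S : Subgroup G) : Set G), ∀ x ∈ B, n * x * n⁻¹ = g * x * g⁻¹ := by
  have hTZ' : T ≤ centralizer ((S : Subgroup G) : Set G) := fun t ht =>
    mem_centralizer_iff.2 fun s hs => ((hTZ t).1 ht).2 s hs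
  -- reduction to `g ∈ N(T)`
  obtain ⟨g', hg', hgg'⟩ := exists_mem_normalizer S hT hTZ' hB hg
  have hg'S : ∀ x ∈ B, g' * x * g'⁻¹ ∈ (S : Subgroup G) := fun x hx => by rw [hgg' x hx]; exact hg x hx
  suffices h : ∃ n ∈ normalizer ((S : Subgroup G) : Set G), ∀ x ∈ B ⊔ T, n * x * n⁻¹ = g' * x * g'⁻¹ by
    obtain ⟨n, hn, hnx⟩ := h
    exact ⟨n, hn, fun x hx => (hnx x (mem_sup_left hx)).trans (hgg' x hx)⟩
  clear hgg' hg
  have hgT : ∀ t ∈ T, g' * t * g'⁻¹ ∈ T := fun t ht => (mem_normalizer_iff.1 hg' t).1 ht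
  have hgT' : ∀ t ∈ T, g'⁻¹ * t * g' ∈ T := fun t ht => by
    have := (mem_normalizer_iff.1 (inv_mem hg') t).1 ht
    rwa [inv_inv] at this
  have hB1 : B ⊔ T ≤ (S : Subgroup G) := sup_le hB hT.1
  have hB2 : (B ⊔ T).map (MulAut.conj g').toMonoidHom ≤ (S : Subgroup G) := by
    rw [Subgroup.map_sup]
    refine sup_le ?_ ?_
    · rintro _ ⟨x, hx, rfl⟩
      exact hg'S x hx
    · rintro _ ⟨x, hx, rfl⟩
      exact hT.1 (hgT x hx)
  generalize hB1e : B ⊔ T = B1 at *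
  have hTB1 : T ≤ B1 := by rw [← hB1e]; exact le_sup_right
  let B2 := B1.map (MulAut.conj g').toMonoidHom
  have hTB2 : T ≤ B2 := fun t ht => ⟨g'⁻¹ * t * g', hTB1 (hgT' t ht), by
    show g' * (g'⁻¹ * t * g') * g'⁻¹ = t
    group⟩
  have hSB2 : (S : Subgroup G) ≤ normalizer (B2 : Set G) := fun s hs =>
    Transfer.FusionBasic.mem_normalizer_of_conj_mem fun b hb => by
      have h1 := hder s hs b (hB2 hb)
      have h2 := mul_mem (hTB2 h1) hb
      rwa [inv_mul_cancel_right] at h2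
  refine correct S (B2 := B2) (fun x hx => ⟨x, hx, rfl⟩) hSB2 fun s hs => ?_
  -- `y = g' s g'⁻¹`
  have hy : ∀ b ∈ B2, (g' * s * g'⁻¹) * b * (g' * s * g'⁻¹)⁻¹ * b⁻¹ ∈ T := by
    rintro _ ⟨b, hb, rfl⟩
    have h1 := hgT _ (hder s hs b (hB1 hb))
    show (g' * s * g'⁻¹) * (g' * b * g'⁻¹) * (g' * s * g'⁻¹)⁻¹ * (g' * b * g'⁻¹)⁻¹ ∈ T
    rwa [show g' * (s * b * s⁻¹ * b⁻¹) * g'⁻¹ =
      (g' * s * g'⁻¹) * (g' * b * g'⁻¹) * (g' * s * g'⁻¹)⁻¹ * (g' * b * g'⁻¹)⁻¹ by group] at h1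
  have hyT : ∀ t ∈ T, (g' * s * g'⁻¹) * t = t * (g' * s * g'⁻¹) := by
    intro t ht
    have h1 := ((hTZ _).1 (hgT' t ht)).2 s hs
    calc (g' * s * g'⁻¹) * t = g' * (s * (g'⁻¹ * t * g')) * g'⁻¹ := by group
      _ = g' * ((g'⁻¹ * t * g') * s) * g'⁻¹ := by rw [h1]
      _ = _ := by group
  -- the case `B1 = S`
  by_cases hSB1 : (S : Subgroup G) ≤ B1
  · exact ⟨g' * s * g'⁻¹, hB2 ⟨s, hSB1 hs, rfl⟩, 1, one_mem _, by rw [mul_one]⟩
  have hcard : Nat.card B2 ≤ p ^ 2 := by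
    have h1 : Nat.card B2 = Nat.card B1 :=
      (Nat.card_congr (B1.equivMapOfInjective (MulAut.conj g').toMonoidHom (MulAut.conj g').injective).toEquiv).symm
    have h2 : Nat.card B1 ∣ p ^ 3 := by rw [← hS]; exact Subgroup.card_dvd_of_le hB1
    obtain ⟨n, hn, hn'⟩ := (Nat.dvd_prime_pow hp.out).1 h2
    rw [h1, hn']
    refine Nat.pow_le_pow_right hp.out.pos ?_
    by_contra h3
    have h4 : n = 3 := by omega
    rw [h4] at hn'
    exact hSB1 (Subgroup.eq_of_le_of_card_ge hB1 (by rw [hS, hn'])).ge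
  generalize g' * s * g'⁻¹ = y at hy hyT
  by_cases hB2T : B2 ≤ T
  · exact ⟨1, one_mem _, y, mem_centralizer_iff.2 fun b hb => (hyT b (hB2T hb)).symm, by rw [one_mul]⟩
  obtain ⟨b, hb, hbT⟩ := SetLike.not_le_iff_exists.1 hB2T
  have hbS := hB2 hb
  obtain ⟨s0, hs0, hs0b⟩ : ∃ s0 ∈ (S : Subgroup G), s0 * b ≠ b * s0 := by
    by_contra hcon
    push Not at hcon
    exact hbT ((hTZ b).2 ⟨hbS, hcon⟩)
  obtain ⟨t0, ht0⟩ : ∃ t0, t0 = s0 * b * s0⁻¹ * b⁻¹ := ⟨_, rfl⟩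
  have ht0T : t0 ∈ T := by rw [ht0]; exact hder s0 hs0 b hbS
  have ht01 : t0 ≠ 1 := by
    intro h
    rw [h] at ht0
    exact hs0b (mul_inv_eq_iff_eq_mul.1 (mul_inv_eq_one.1 ht0.symm))
  have ht0S := (hTZ t0).1 ht0T
  have hTz : T = zpowers t0 := by
    refine (Subgroup.eq_of_le_of_card_ge (zpowers_le.2 ht0T) ?_).symm
    have h1 : Nat.card (zpowers t0) ∣ p := by rw [← hTc]; exact Subgroup.card_dvd_of_le (zpowers_le.2 ht0T)
    rcases (Nat.dvd_prime hp.out).1 h1 with h2 | h2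
    · rw [Subgroup.card_eq_one, zpowers_eq_bot] at h2
      exact absurd h2 ht01
    · rw [h2, hTc]
  obtain ⟨k, hk⟩ := mem_zpowers_iff.1 (show y * b * y⁻¹ * b⁻¹ ∈ zpowers t0 by rw [← hTz]; exact hy b hb)
  have hst : s0 * b * s0⁻¹ = t0 * b := by rw [ht0]; group
  have hs0t : Commute s0 t0 := ht0S.2 s0 hs0
  have hpow : ∀ k : ℤ, s0 ^ k * b * (s0 ^ k)⁻¹ = t0 ^ k * b := by
    have hc1 : MulAut.conj s0 b = t0 * b := hst
    have hc2 : MulAut.conj s0 t0 = t0 := by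
      show s0 * t0 * s0⁻¹ = t0
      rw [hs0t.eq, mul_inv_cancel_right]
    have hnat : ∀ n : ℕ, s0 ^ n * b * (s0 ^ n)⁻¹ = t0 ^ n * b := by
      intro n
      induction n with
      | zero => simp
      | succ n ih =>
        have h1 : s0 * t0 ^ n = t0 ^ n * s0 := (hs0t.pow_right n).eq
        calc s0 ^ (n + 1) * b * (s0 ^ (n + 1))⁻¹ = s0 * (s0 ^ n * b * (s0 ^ n)⁻¹) * s0⁻¹ := by
              rw [pow_succ']; group
          _ = (s0 * t0 ^ n) * b * s0⁻¹ := by rw [ih]; group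
          _ = t0 ^ n * (s0 * b * s0⁻¹) := by rw [h1]; group
          _ = t0 ^ n * t0 * b := by rw [hst]; group
          _ = t0 ^ (n + 1) * b := by rw [pow_succ]
    intro k
    obtain ⟨n, rfl | rfl⟩ := k.eq_nat_or_neg
    · simpa using hnat n
    · have h1 := hnat n
      have h2 : s0 ^ n * t0 ^ n = t0 ^ n * s0 ^ n := ((hs0t.pow_left n).pow_right n).eq
      rw [zpow_neg, zpow_natCast, inv_inv, zpow_neg, zpow_natCast]
      have h3 : s0 ^ n * b = t0 ^ n * b * s0 ^ n := mul_inv_eq_iff_eq_mul.1 h1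
      have h4 : b = (s0 ^ n)⁻¹ * (t0 ^ n * b * s0 ^ n) := by rw [← h3]; group
      have h5 : (s0 ^ n)⁻¹ * t0 ^ n = t0 ^ n * (s0 ^ n)⁻¹ := by
        rw [inv_mul_eq_iff_eq_mul, ← mul_assoc, h2, mul_inv_cancel_right]
      have h6 : b = t0 ^ n * ((s0 ^ n)⁻¹ * b * s0 ^ n) := by
        calc b = (s0 ^ n)⁻¹ * (t0 ^ n * b * s0 ^ n) := h4
          _ = ((s0 ^ n)⁻¹ * t0 ^ n) * b * s0 ^ n := by group
          _ = t0 ^ n * (s0 ^ n)⁻¹ * b * s0 ^ n := by rw [h5]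
          _ = _ := by group
      rw [eq_inv_mul_iff_mul_eq]
      exact h6.symm
  have hr : s0 ^ k ∈ (S : Subgroup G) := Subgroup.zpow_mem _ hs0 k
  have hyb : y * b * y⁻¹ = t0 ^ k * b := by
    rw [hk]; group
  have hc : ∀ x ∈ T ⊔ zpowers b, x * ((s0 ^ k)⁻¹ * y) = ((s0 ^ k)⁻¹ * y) * x := by
    have hle : T ⊔ zpowers b ≤ centralizer ({(s0 ^ k)⁻¹ * y} : Set G) := by
      refine sup_le (fun t ht => ?_) (zpowers_le.2 ?_)
      · rw [mem_centralizer_singleton_iff]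
        have h1 := ((hTZ t).1 ht).2 _ hr
        have h2 := hyT t ht
        have h3 : (s0 ^ k)⁻¹ * t = t * (s0 ^ k)⁻¹ := by
          rw [inv_mul_eq_iff_eq_mul, ← mul_assoc, h1, mul_inv_cancel_right]
        calc t * ((s0 ^ k)⁻¹ * y) = (t * (s0 ^ k)⁻¹) * y := by group
          _ = ((s0 ^ k)⁻¹ * t) * y := by rw [h3]
          _ = (s0 ^ k)⁻¹ * (t * y) := by group
          _ = (s0 ^ k)⁻¹ * (y * t) := by rw [h2]
          _ = _ := by group
      · rw [mem_centralizer_singleton_iff]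
        have h1 : s0 ^ k * b * (s0 ^ k)⁻¹ = y * b * y⁻¹ := by rw [hpow, hyb]
        calc b * ((s0 ^ k)⁻¹ * y) = (s0 ^ k)⁻¹ * (s0 ^ k * b * (s0 ^ k)⁻¹) * y := by group
          _ = (s0 ^ k)⁻¹ * (y * b * y⁻¹) * y := by rw [h1]
          _ = _ := by group
    exact fun x hx => mem_centralizer_singleton_iff.1 (hle hx)
  have hB2e : T ⊔ zpowers b = B2 := by
    refine Subgroup.eq_of_le_of_card_ge (sup_le hTB2 (zpowers_le.2 hb)) (hcard.trans ?_)
    have h1 : Nat.card ↥(T ⊔ zpowers b) ∣ p ^ 3 := by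
      rw [← hS]; exact Subgroup.card_dvd_of_le (sup_le hT.1 (zpowers_le.2 hbS))
    obtain ⟨n, hn, hn'⟩ := (Nat.dvd_prime_pow hp.out).1 h1
    rw [hn']
    refine Nat.pow_le_pow_right hp.out.pos ?_
    by_contra h3
    have h4 : Nat.card ↥(T ⊔ zpowers b) ≤ Nat.card T := by
      rw [hn', hTc]
      calc p ^ n ≤ p ^ 1 := Nat.pow_le_pow_right hp.out.pos (by omega)
        _ = p := pow_one p
    have h5 : T = T ⊔ zpowers b := Subgroup.eq_of_le_of_card_ge le_sup_left h4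
    apply hbT
    rw [h5]
    exact mem_sup_right (mem_zpowers b)
  exact ⟨s0 ^ k, hr, (s0 ^ k)⁻¹ * y, mem_centralizer_iff.2 fun x hx => hc x (by rw [hB2e]; exact hx), by group⟩

/-- one Sylow subgroup suffices -/
theorem nfus_of_one (S : Sylow p G) (h : ∀ B : Subgroup G, B ≤ (S : Subgroup G) → ∀ g : G,
    (∀ x ∈ B, g * x * g⁻¹ ∈ (S : Subgroup G)) →
      ∃ n ∈ normalizer ((S : Subgroup G) : Set G), ∀ x ∈ B, n * x * n⁻¹ = g * x * g⁻¹) : H794.NFus p G := by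
  intro S' B hB g hg
  obtain ⟨k, rfl⟩ := MulAction.exists_smul_eq G S S'
  have hmem : ∀ x : G, x ∈ ((k • S : Sylow p G) : Subgroup G) ↔ k⁻¹ * x * k ∈ (S : Subgroup G) := by
    intro x
    rw [Sylow.coe_subgroup_smul]
    constructor
    · rintro ⟨y, hy, rfl⟩
      show k⁻¹ * (k * y * k⁻¹) * k ∈ (S : Subgroup G)
      rwa [show k⁻¹ * (k * y * k⁻¹) * k = y by group]
    · intro hx
      exact ⟨_, hx, by show k * (k⁻¹ * x * k) * k⁻¹ = x; group⟩
  obtain ⟨n, hn, hnx⟩ := h (B.map (MulAut.conj k⁻¹).toMonoidHom) (by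
    rintro _ ⟨x, hx, rfl⟩
    have := (hmem x).1 (hB hx)
    show k⁻¹ * x * k⁻¹⁻¹ ∈ _
    rwa [inv_inv]) (k⁻¹ * g * k) (by
    rintro _ ⟨x, hx, rfl⟩
    have := (hmem _).1 (hg x hx)
    show (k⁻¹ * g * k) * (k⁻¹ * x * k⁻¹⁻¹) * (k⁻¹ * g * k)⁻¹ ∈ _
    rwa [show (k⁻¹ * g * k) * (k⁻¹ * x * k⁻¹⁻¹) * (k⁻¹ * g * k)⁻¹ = k⁻¹ * (g * x * g⁻¹) * k by group])
  refine ⟨k * n * k⁻¹, ?_, fun x hx => ?_⟩
  · refine Transfer.FusionBasic.mem_normalizer_of_conj_mem fun x hx => ?_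
    rw [hmem] at hx ⊢
    have := (mem_normalizer_iff.1 hn _).1 hx
    rwa [show n * (k⁻¹ * x * k) * n⁻¹ = k⁻¹ * (k * n * k⁻¹ * x * (k * n * k⁻¹)⁻¹) * k by group] at this
  · have h1 := hnx (k⁻¹ * x * k) ⟨x, hx, by show k⁻¹ * x * k⁻¹⁻¹ = _; group⟩
    calc k * n * k⁻¹ * x * (k * n * k⁻¹)⁻¹ = k * (n * (k⁻¹ * x * k) * n⁻¹) * k⁻¹ := by group
      _ = k * (k⁻¹ * g * k * (k⁻¹ * x * k) * (k⁻¹ * g * k)⁻¹) * k⁻¹ := by rw [h1]
      _ = _ := by group

/-- No subgroup of order `p²` of a Sylow `p`-subgroup `S` is invariant under `N_G(S)`. -/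
def NoTwo (p : ℕ) (G : Type*) [Group G] : Prop :=
  ∀ (S : Sylow p G) (T : Subgroup G), T ≤ (S : Subgroup G) →
    (∀ n ∈ normalizer ((S : Subgroup G) : Set G), ∀ t ∈ T, n * t * n⁻¹ ∈ T) → Nat.card T ≠ p ^ 2

/-- **Nonabelian Sylow subgroups of order `p ^ 3`.** -/
theorem full_or_nfus_of_cube (h3 : p ^ 3 ∣ Nat.card G) (h4 : ¬ p ^ 4 ∣ Nat.card G)
    (hna : ∀ S : Sylow p G, ∃ a ∈ (S : Subgroup G), ∃ b ∈ (S : Subgroup G), a * b ≠ b * a)
    (hirr : ∀ (S : Sylow p G) (T : Subgroup G), IsStronglyClosed T (S : Subgroup G) → Nat.card T ≠ p ^ 2) :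
    FullP p G ∨ H794.NFus p G := by
  by_cases hF : H794.Full p G
  · exact Or.inl (fullP_of_full hF)
  right
  unfold H794.Full at hF
  push Not at hF
  obtain ⟨S, T, hT, hT1, hTS⟩ := hF
  have hS : Nat.card (S : Subgroup G) = p ^ 3 := by
    obtain ⟨n, hn⟩ := IsPGroup.iff_card.mp S.2
    have h5 : n < 4 := by
      by_contra h6
      exact h4 ((pow_dvd_pow p (not_lt.1 h6)).trans (by rw [← hn]; exact Subgroup.card_subgroup_dvd_card _))
    have h6 : p ^ 3 ∣ p ^ n := by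
      rw [← hn]
      exact S.pow_dvd_card_of_pow_dvd_card h3
    have h7 : 3 ≤ n := (Nat.pow_dvd_pow_iff_le_right hp.out.one_lt).1 h6
    rw [hn, show n = 3 by omega]
  have hTc : Nat.card T = p := by
    have h5 : Nat.card T ∣ p ^ 3 := by rw [← hS]; exact Subgroup.card_dvd_of_le hT.1
    obtain ⟨n, hn, hn'⟩ := (Nat.dvd_prime_pow hp.out).1 h5
    interval_cases n
    · rw [pow_zero, Subgroup.card_eq_one] at hn'
      exact absurd hn' hT1
    · rw [hn', pow_one]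
    · exact absurd hn' (hirr S T hT)
    · exact absurd (Subgroup.eq_of_le_of_card_ge hT.1 (by rw [hn', hS])) hTS
  -- `T` is central
  obtain ⟨d, hd, hd1, hdc⟩ := H280.StrongFusion.exists_mem_center S hT hT1
  have hTd : T = zpowers d := by
    refine (Subgroup.eq_of_le_of_card_ge (zpowers_le.2 hd) ?_).symm
    have h1 : Nat.card (zpowers d) ∣ p := by rw [← hTc]; exact Subgroup.card_dvd_of_le (zpowers_le.2 hd)
    rcases (Nat.dvd_prime hp.out).1 h1 with h2 | h2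
    · rw [Subgroup.card_eq_one, zpowers_eq_bot] at h2
      exact absurd h2 hd1
    · rw [h2, hTc]
  have hTcen : ∀ t ∈ T, ∀ s ∈ (S : Subgroup G), s * t = t * s := by
    intro t ht s hs
    rw [hTd] at ht
    obtain ⟨n, rfl⟩ := mem_zpowers_iff.1 ht
    exact ((show Commute s d from hdc s hs).zpow_right n).eq
  -- the centre of `S`
  let Z := (S : Subgroup G) ⊓ centralizer ((S : Subgroup G) : Set G)
  have hTZ1 : T ≤ Z := fun t ht => mem_inf.2 ⟨hT.1 ht, mem_centralizer_iff.2 fun s hs => hTcen t ht s hs⟩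
  have hZcomm : ∀ x : G, x ∈ (S : Subgroup G) → (∀ s ∈ (S : Subgroup G), s * x = x * s) → x ∈ T := by
    intro x hx hxc
    by_contra hxT
    -- `Z` has order at least `p²`
    have hZc : p ^ 2 ≤ Nat.card Z := by
      have h5 : Nat.card Z ∣ p ^ 3 := by rw [← hS]; exact Subgroup.card_dvd_of_le inf_le_left
      obtain ⟨n, hn, hn'⟩ := (Nat.dvd_prime_pow hp.out).1 h5
      rw [hn']
      refine Nat.pow_le_pow_right hp.out.pos ?_
      by_contra h3
      have h4 : Nat.card Z ≤ Nat.card T := by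
        rw [hn', hTc]
        calc p ^ n ≤ p ^ 1 := Nat.pow_le_pow_right hp.out.pos (by omega)
          _ = p := pow_one p
      have h5 : T = Z := Subgroup.eq_of_le_of_card_ge hTZ1 h4
      apply hxT
      rw [h5]
      exact mem_inf.2 ⟨hx, mem_centralizer_iff.2 fun s hs => hxc s hs⟩
    obtain ⟨a, ha, b, hb, hab⟩ := hna S
    -- `C_S(a)` contains `Z` and `a`, so it is `S`
    have haZ : a ∉ Z := fun h => hab ((mem_centralizer_iff.1 (mem_inf.1 h).2) b hb).symm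
    let C := (S : Subgroup G) ⊓ centralizer ({a} : Set G)
    have hZC : Z ≤ C := fun z hz => mem_inf.2 ⟨(mem_inf.1 hz).1, mem_centralizer_singleton_iff.2
      ((mem_centralizer_iff.1 (mem_inf.1 hz).2) a ha).symm⟩
    have haC : a ∈ C := mem_inf.2 ⟨ha, mem_centralizer_singleton_iff.2 rfl⟩
    have hCS : C = (S : Subgroup G) := by
      refine Subgroup.eq_of_le_of_card_ge inf_le_left ?_
      have h5 : Nat.card C ∣ p ^ 3 := by rw [← hS]; exact Subgroup.card_dvd_of_le inf_le_left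
      obtain ⟨n, hn, hn'⟩ := (Nat.dvd_prime_pow hp.out).1 h5
      rw [hS, hn']
      refine Nat.pow_le_pow_right hp.out.pos ?_
      by_contra h3
      have h4 : Nat.card C ≤ Nat.card Z := by
        rw [hn']
        exact (Nat.pow_le_pow_right hp.out.pos (by omega)).trans hZc
      have h5 : Z = C := Subgroup.eq_of_le_of_card_ge hZC h4
      exact haZ (by rw [h5]; exact haC)
    have hbC : b ∈ C := by rw [hCS]; exact hb
    exact hab (mem_centralizer_singleton_iff.1 (mem_inf.1 hbC).2).symm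
  have hTZ : ∀ x : G, x ∈ T ↔ x ∈ (S : Subgroup G) ∧ ∀ s ∈ (S : Subgroup G), s * x = x * s :=
    fun x => ⟨fun hx => ⟨hT.1 hx, hTcen x hx⟩, fun hx => hZcomm x hx.1 hx.2⟩
  have hder : ∀ a ∈ (S : Subgroup G), ∀ b ∈ (S : Subgroup G), a * b * a⁻¹ * b⁻¹ ∈ T := by
    have hSn : (S : Subgroup G) ≤ normalizer (T : Set G) := H280.StrongZJ.le_normalizer_of_stronglyClosed hT
    have hTn : (T.subgroupOf (S : Subgroup G)).Normal := (normal_subgroupOf_iff_le_normalizer hT.1).mpr hSn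
    have hcq : Nat.card (↥(S : Subgroup G) ⧸ T.subgroupOf (S : Subgroup G)) = p ^ 2 := by
      have h5 := Subgroup.card_mul_index (T.subgroupOf (S : Subgroup G))
      rw [Nat.card_congr (subgroupOfEquivOfLe hT.1).toEquiv, hTc, hS] at h5
      have h6 : p * (T.subgroupOf (S : Subgroup G)).index = p * p ^ 2 := by rw [h5]; ring
      exact Nat.eq_of_mul_eq_mul_left hp.out.pos h6
    intro a ha b hb
    have hcom := IsPGroup.isMulCommutative_of_card_eq_prime_sq hcq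
    have h5 : (QuotientGroup.mk' (T.subgroupOf (S : Subgroup G))) ⟨a, ha⟩ * (QuotientGroup.mk' _) ⟨b, hb⟩ =
        (QuotientGroup.mk' (T.subgroupOf (S : Subgroup G))) ⟨b, hb⟩ * (QuotientGroup.mk' _) ⟨a, ha⟩ :=
      hcom.is_comm.comm _ _
    have h6 : (QuotientGroup.mk' (T.subgroupOf (S : Subgroup G))) (⟨a, ha⟩ * ⟨b, hb⟩ * (⟨a, ha⟩)⁻¹ * (⟨b, hb⟩)⁻¹) = 1 := by
      rw [map_mul, map_mul, map_mul, map_inv, map_inv, h5]
      group
    have h7 := (QuotientGroup.eq_one_iff _).1 h6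
    exact h7
  exact nfus_of_one S fun B hB g hg => controls_of_card_cube S hS hT hTc hTZ hder hB hg

end Cfsg.Agent.H792.SpCube
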