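import Mathlib
import Cfsg.Agent.H749.PCl
import Cfsg.Agent.H794.Full
import Cfsg.Agent.Lib.KleinGen
import Cfsg.Agent.H280.StrongZJ
import Cfsg.Agent.H280.StrongFusion
import Cfsg.Agent.H790.StarQ
import Cfsg.Agent.Transfer.FocalHall

/-!
# Tools for the rows `FullP p G`, `G` sporadic (helper792)

* `fullP_of_full`, `full_of_fullP` : `Full p G` and `FullP p G` are equivalent for finite groups;
* `FullP.of_hom` : from a homomorphism with image of index prime to `p`; `FullP.of_pprime_ker` : kernels of order prime to `p`;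
* `closure_of_central_ker` : central extensions by `p`-groups;
* `fullP_of_card` : `p² ∤ |G|`;
* `Con p G x` : the smallest `p`-closed class containing `x`; `fullP_of_sylow` : the final step with generators of a Sylow
  subgroup;
* `fullP_of_klein` : a four-group normalising a Sylow subgroup;
* `not_ti_of_arith` : arithmetical criterion against `TI p G`.
-/

set_option autoImplicit false

namespace Cfsg.Agent.H792.SpTool

open Subgroup Cfsg Cfsg.Agent.H749
open scoped commutatorElement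

universe u v

section basic

variable {p : ℕ} [hp : Fact p.Prime] {G : Type*} [Group G] [Finite G]

/-- the subgroup of the elements of `S` in the class `P` -/
def part {P : G → Prop} (hP : PCl p P) (S : Sylow p G) : Subgroup G where
  carrier := {x | x ∈ (S : Subgroup G) ∧ P x}
  one_mem' := ⟨one_mem _, hP.one⟩
  mul_mem' := fun hx hy => ⟨mul_mem hx.1 hy.1, hP.mul S.2 hx.1 hy.1 hx.2 hy.2⟩
  inv_mem' := fun hx => ⟨inv_mem hx.1, hP.inv hx.2⟩

omit hp [Finite G] in
theorem mem_part {P : G → Prop} {hP : PCl p P} {S : Sylow p G} {x : G} :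
    x ∈ part hP S ↔ x ∈ (S : Subgroup G) ∧ P x := Iff.rfl

omit hp [Finite G] in
theorem part_closed {P : G → Prop} (hP : PCl p P) (S : Sylow p G) : IsStronglyClosed (part hP S) (S : Subgroup G) :=
  ⟨fun _ hx => hx.1, fun _ hx g hg => ⟨hg, hP.conj g hx.2⟩⟩

/-- every `p`-element is conjugate into `S` -/
theorem exists_conj (S : Sylow p G) {x : G} (hx : PEl p x) : ∃ g : G, g * x * g⁻¹ ∈ (S : Subgroup G) := by
  obtain ⟨g, hg⟩ := ClosedTwo.Elem.exists_conj_le S (isPGroup_zpowers hx)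
  exact ⟨g, hg x (mem_zpowers x)⟩

theorem part_ne_bot {P : G → Prop} (hP : PCl p P) (S : Sylow p G) {x : G} (hx : PEl p x) (hx1 : x ≠ 1) (hPx : P x) :
    part hP S ≠ ⊥ := by
  obtain ⟨g, hg⟩ := exists_conj S hx
  intro h
  have h1 : g * x * g⁻¹ ∈ part hP S := ⟨hg, hP.conj g hPx⟩
  rw [h, mem_bot] at h1
  exact hx1 (conj_eq_one_iff.1 h1)

theorem fullP_of_full (h : H794.Full p G) : FullP p G := by
  rintro P hP ⟨x, hx, hx1, hPx⟩ y hy
  obtain ⟨S⟩ : Nonempty (Sylow p G) := inferInstance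
  have h1 := (h S (part hP S) (part_closed hP S)).resolve_left (part_ne_bot hP S hx hx1 hPx)
  obtain ⟨g, hg⟩ := exists_conj S hy
  rw [← h1] at hg
  exact hP.of_conj hg.2

theorem full_of_fullP (h : FullP p G) : H794.Full p G := fun _ _ hA => eq_of_fullP h hA

/-- it suffices to show that some Sylow subgroup is in the class -/
theorem all_of_sylow {P : G → Prop} (hP : PCl p P) (S : Sylow p G) (h : ∀ x ∈ (S : Subgroup G), P x) {y : G}
    (hy : PEl p y) : P y := by
  obtain ⟨g, hg⟩ := exists_conj S hy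
  exact hP.of_conj (h _ hg)

/-- **Homomorphisms with image of index prime to `p`.** -/
theorem fullP_of_hom {H : Type*} [Group H] [Finite H] (f : H →* G) (hf : ¬ p ∣ f.range.index) (h : FullP p H) :
    FullP p G := by
  have key : ∀ x : G, PEl p x → ∃ (g : G) (y : H), PEl p y ∧ f y = g * x * g⁻¹ := by
    intro x hx
    obtain ⟨g, hg⟩ := exists_conj_mem f.range hf hx
    have hx' : PEl p (⟨g * x * g⁻¹, hg⟩ : f.range) :=
      PEl.of_map (f := f.range.subtype) f.range.subtype_injective (hx.conj g)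
    obtain ⟨y, hy, e⟩ := exists_pEl_lift f.rangeRestrict f.rangeRestrict_surjective hx'
    exact ⟨g, y, hy, congrArg Subtype.val e⟩
  rintro P hP ⟨x, hx, hx1, hPx⟩ z hz
  obtain ⟨g, y, hy, e⟩ := key x hx
  have hy1 : y ≠ 1 := by
    rintro rfl
    rw [map_one] at e
    exact hx1 (conj_eq_one_iff.1 e.symm)
  have hall := h _ (hP.comap f) ⟨y, hy, hy1, by show P (f y); rw [e]; exact hP.conj g hPx⟩
  obtain ⟨g', z', hz', e'⟩ := key z hz
  have h1 : P (f z') := hall z' hz'
  rw [e'] at h1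
  exact hP.of_conj h1

/-- subgroups of index prime to `p` -/
theorem fullP_of_subgroup (H : Subgroup G) (hH : ¬ p ∣ H.index) (h : FullP p H) : FullP p G :=
  fullP_of_hom H.subtype (by rwa [range_subtype]) h

/-- **Sylow subgroups of order dividing `p`.** -/
theorem fullP_of_card (h : ¬ p ^ 2 ∣ Nat.card G) : FullP p G := by
  rintro P hP ⟨x, hx, hx1, hPx⟩ y hy
  obtain ⟨S⟩ : Nonempty (Sylow p G) := inferInstance
  have hS : Nat.card (S : Subgroup G) = 1 ∨ Nat.card (S : Subgroup G) = p := by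
    obtain ⟨n, hn⟩ := IsPGroup.iff_card.mp S.2
    have h1 : p ^ n ∣ Nat.card G := by rw [← hn]; exact Subgroup.card_subgroup_dvd_card _
    have h2 : n < 2 := by
      by_contra h3
      exact h ((pow_dvd_pow p (not_lt.1 h3)).trans h1)
    interval_cases n
    · left; simpa using hn
    · right; simpa using hn
  have h1 := part_ne_bot hP S hx hx1 hPx
  have h2 : part hP S = (S : Subgroup G) := by
    rcases hS with h0 | h0
    · exfalso
      apply h1
      rw [eq_bot_iff]
      have h3 : (S : Subgroup G) = ⊥ := Subgroup.card_eq_one.1 h0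
      rw [← h3]
      exact (part_closed hP S).1
    · refine Subgroup.eq_of_le_of_card_ge (part_closed hP S).1 ?_
      rw [h0]
      have h3 : Nat.card (part hP S) ∣ p := (Subgroup.card_dvd_of_le (part_closed hP S).1).trans h0.dvd
      rcases (Nat.dvd_prime hp.out).1 h3 with h4 | h4
      · exact absurd (Subgroup.card_eq_one.1 h4) h1
      · exact h4.ge
  refine all_of_sylow hP S (fun x hx => ?_) hy
  rw [← h2] at hx
  exact hx.2

/-- **Quotients by normal `p'`-subgroups**. -/
theorem fullP_of_surjective_pprime {H : Type*} [Group H] [Finite H] (f : G →* H) (hf : Function.Surjective f)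
    (hk : ¬ p ∣ Nat.card f.ker) (h : FullP p H) : FullP p G := by
  rintro P hP ⟨x, hx, hx1, hPx⟩ y hy
  -- two `p`-elements with the same image are conjugate
  let P' : H → Prop := fun z => ∃ y : G, PEl p y ∧ f y = z ∧ P y
  have hlift : ∀ {q : G}, PEl p q → P' (f q) → P q := by
    rintro q hq ⟨w, hw, hwz, hPw⟩
    have hmap : (zpowers w).map f = (zpowers q).map f := by
      rw [MonoidHom.map_zpowers, MonoidHom.map_zpowers, hwz]
    obtain ⟨k, hk', e⟩ := H790.exists_ker_conj f hk (isPGroup_zpowers hw) (isPGroup_zpowers hq) hmap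
    have h1 : k * q * k⁻¹ ∈ zpowers w := by
      rw [← e]; exact ⟨q, mem_zpowers q, rfl⟩
    have h2 : k * q * k⁻¹ = w := by
      refine H790.injOn_of_pGroup f hk (isPGroup_zpowers hw) h1 (mem_zpowers w) ?_
      rw [map_mul, map_mul, map_inv, (MonoidHom.mem_ker).1 hk', hwz]
      group
    rw [← h2] at hPw
    exact hP.of_conj hPw
  have hP' : PCl p P' :=
    { one := ⟨1, PEl.one, map_one f, hP.one⟩
      inv := fun {x} ⟨y, h1, h2, h3⟩ => ⟨y⁻¹, h1.inv, by rw [map_inv, h2], hP.inv h3⟩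
      conj := fun {x} g ⟨y, h1, h2, h3⟩ => by
        obtain ⟨g', rfl⟩ := hf g
        exact ⟨g' * y * g'⁻¹, h1.conj g', by rw [map_mul, map_mul, map_inv, h2], hP.conj g' h3⟩
      mul := fun {R} hR {x y} hx hy h1 h2 => by
        obtain ⟨Q, hQ, rfl⟩ := H790.exists_lift f hf hR
        obtain ⟨a, ha, rfl⟩ := hx
        obtain ⟨b, hb, rfl⟩ := hy
        exact ⟨a * b, PEl.of_isPGroup hQ (Q.mul_mem ha hb), map_mul f a b,
          hP.mul hQ ha hb (hlift (PEl.of_isPGroup hQ ha) h1) (hlift (PEl.of_isPGroup hQ hb) h2)⟩ }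
  refine hlift hy (h P' hP' ⟨f x, hx.map f, ?_, x, hx, rfl, hPx⟩ _ (hy.map f))
  intro h1
  exact hx1 (H790.injOn_of_pGroup f hk (isPGroup_zpowers hx) (mem_zpowers x) (one_mem _) (by rw [h1, map_one]))

/-- **Central extensions of `p`-groups.** `f : G → H` surjective with central kernel contained in the commutator subgroup of
`G`; if the class `P` contains, modulo the kernel, all `p`-elements of `H`, then it contains all `p`-elements of `G`. -/
theorem all_of_central {H : Type*} [Group H] [Finite H] (f : G →* H) (hf : Function.Surjective f)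
    (hkp : IsPGroup p f.ker) (hkc : f.ker ≤ center G) (hkd : f.ker ≤ commutator G) (h : FullP p H)
    {P : G → Prop} (hP : PCl p P) {x : G} (hx : PEl p x) (hx1 : f x ≠ 1) (hPx : P x) {y : G} (hy : PEl p y) : P y := by
  -- the class `P'` of the images
  let P' : H → Prop := fun z => ∃ y : G, PEl p y ∧ f y = z ∧ P y
  have hP' : PCl p P' :=
    { one := ⟨1, PEl.one, map_one f, hP.one⟩
      inv := fun {x} ⟨y, h1, h2, h3⟩ => ⟨y⁻¹, h1.inv, by rw [map_inv, h2], hP.inv h3⟩
      conj := fun {x} g ⟨y, h1, h2, h3⟩ => by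
        obtain ⟨g', rfl⟩ := hf g
        exact ⟨g' * y * g'⁻¹, h1.conj g', by rw [map_mul, map_mul, map_inv, h2], hP.conj g' h3⟩
      mul := fun {R} hR {x y} hx hy h1 h2 => by
        have hQ : IsPGroup p (R.comap f) := hR.comap_of_ker_isPGroup f hkp
        obtain ⟨a, ha, ha1, ha2⟩ := h1
        obtain ⟨b, hb, hb1, hb2⟩ := h2
        have haQ : a ∈ R.comap f := by rw [mem_comap, ha1]; exact hx
        have hbQ : b ∈ R.comap f := by rw [mem_comap, hb1]; exact hy
        exact ⟨a * b, PEl.of_isPGroup hQ (mul_mem haQ hbQ), by rw [map_mul, ha1, hb1], hP.mul hQ haQ hbQ ha2 hb2⟩ }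
  have hall := h P' hP' ⟨f x, hx.map f, hx1, x, hx, rfl, hPx⟩
  obtain ⟨S⟩ : Nonempty (Sylow p G) := inferInstance
  have hkS : f.ker ≤ (S : Subgroup G) := by
    obtain ⟨Q, hQ⟩ := hkp.exists_le_sylow
    obtain ⟨g, hg⟩ := MulAction.exists_smul_eq G Q S
    intro k hk
    have h1 : k ∈ (Q : Subgroup G) := hQ hk
    rw [← hg, Sylow.coe_subgroup_smul]
    refine ⟨k, h1, ?_⟩
    have h2 := mem_center_iff.1 (hkc hk) g
    show g * k * g⁻¹ = k
    rw [h2, mul_inv_cancel_right]
  -- `S = T Z`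
  have hTZ : ∀ s ∈ (S : Subgroup G), ∃ t ∈ part hP S, ∃ z ∈ f.ker, s = t * z := by
    intro s hs
    obtain ⟨t, ht, hts, hPt⟩ := hall (f s) ((PEl.of_isPGroup S.2 hs).map f)
    have hz : t⁻¹ * s ∈ f.ker := by rw [MonoidHom.mem_ker, map_mul, map_inv, hts, inv_mul_cancel]
    refine ⟨t, ⟨?_, hPt⟩, t⁻¹ * s, hz, by group⟩
    have : t = s * (t⁻¹ * s)⁻¹ := by group
    rw [this]
    exact mul_mem hs (inv_mem (hkS hz))
  -- the kernel is in the focal subgroup, which is in the part
  have hkS' : f.ker ≤ part hP S := by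
    have h1 : Nat.Coprime (S : Subgroup G).index (⁅(S : Subgroup G), (S : Subgroup G)⁆.relIndex (S : Subgroup G)) := by
      refine Transfer.FocalHall.coprime_of_hall _ ?_
      obtain ⟨n, hn⟩ := IsPGroup.iff_card.mp S.2
      rw [hn]
      exact Nat.Coprime.pow_left n ((Nat.Prime.coprime_iff_not_dvd hp.out).mpr S.not_dvd_index)
    have h2 := Transfer.FocalHall.focal_eq (S : Subgroup G) h1
    have h3 : f.ker ≤ (S : Subgroup G).focalSubgroup := by
      rw [h2]
      exact le_inf hkd hkS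
    refine h3.trans ?_
    rw [focalSubgroup_def, closure_le]
    rintro _ ⟨hg, s, hs, u, rfl⟩
    obtain ⟨t, ht, z, hz, rfl⟩ := hTZ s hs
    have hzc := fun g => mem_center_iff.1 (hkc hz) g
    have e : ⁅t * z, u⁆ = t * (u * t⁻¹ * u⁻¹) := by
      rw [commutatorElement_def]
      calc t * z * u * (t * z)⁻¹ * u⁻¹ = t * (z * u) * z⁻¹ * t⁻¹ * u⁻¹ := by group
        _ = t * (u * z) * z⁻¹ * t⁻¹ * u⁻¹ := by rw [hzc u]
        _ = _ := by group
    rw [e] at hg ⊢
    have h4 : u * t⁻¹ * u⁻¹ ∈ (S : Subgroup G) := by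
      have := mul_mem (inv_mem ht.1) hg
      rwa [inv_mul_cancel_left] at this
    exact mul_mem ht ⟨h4, hP.conj u (hP.inv ht.2)⟩
  refine all_of_sylow hP S (fun s hs => ?_) hy
  obtain ⟨t, ht, z, hz, rfl⟩ := hTZ s hs
  exact (mul_mem ht (hkS' hz)).2

omit hp [Finite G] in
/-- a centralizer in which the class is connected: if `P` contains a nontrivial `p`-element commuting with `t` then it
contains all of them -/
theorem all_of_fullP_centralizer {t : G} (h : FullP p (centralizer ({t} : Set G))) {P : G → Prop} (hP : PCl p P) {x : G}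
    (hx : PEl p x) (hx1 : x ≠ 1) (hxt : x * t = t * x) (hPx : P x) {y : G} (hy : PEl p y) (hyt : y * t = t * y) : P y := by
  have hxm : x ∈ centralizer ({t} : Set G) := mem_centralizer_singleton_iff.2 hxt
  have hym : y ∈ centralizer ({t} : Set G) := mem_centralizer_singleton_iff.2 hyt
  exact h _ (hP.comap (centralizer ({t} : Set G)).subtype)
    ⟨⟨x, hxm⟩, PEl.of_map (f := (centralizer ({t} : Set G)).subtype) (Subgroup.subtype_injective _) hx,
      fun h => hx1 (congrArg Subtype.val h), hPx⟩ ⟨y, hym⟩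
    (PEl.of_map (f := (centralizer ({t} : Set G)).subtype) (Subgroup.subtype_injective _) hy)

/-- **A four-group normalising a `p`-subgroup `R`**: `R` is in the class if the centralizers in `R` of the three involutions
are. -/
theorem all_of_klein (hp2 : p ≠ 2) {P : G → Prop} (hP : PCl p P) {R : Subgroup G} (hR : IsPGroup p R) {u v : G}
    (hu : u * u = 1) (hv : v * v = 1) (huv : u * v = v * u) (huR : ∀ x ∈ R, u * x * u⁻¹ ∈ R)
    (hvR : ∀ x ∈ R, v * x * v⁻¹ ∈ R)
    (h : ∀ t : G, t = u ∨ t = v ∨ t = u * v → ∀ x ∈ R, x * t = t * x → P x) {x : G} (hx : x ∈ R) : P x := by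
  have hodd : Odd (Nat.card R) := by
    obtain ⟨n, hn⟩ := IsPGroup.iff_card.mp hR
    rw [hn]
    exact (hp.out.odd_of_ne_two hp2).pow
  let M : Subgroup G :=
    { carrier := {x | x ∈ R ∧ P x}
      one_mem' := ⟨one_mem _, hP.one⟩
      mul_mem' := fun hx hy => ⟨mul_mem hx.1 hy.1, hP.mul hR hx.1 hy.1 hx.2 hy.2⟩
      inv_mem' := fun hx => ⟨inv_mem hx.1, hP.inv hx.2⟩ }
  have hle := Lib.KleinGen.le_of_klein R M hodd u v hu hv huv huR hvR
    (fun y hy => ⟨hy.1, h u (Or.inl rfl) y hy.1 (mem_centralizer_singleton_iff.1 hy.2)⟩)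
    (fun y hy => ⟨hy.1, h v (Or.inr (Or.inl rfl)) y hy.1 (mem_centralizer_singleton_iff.1 hy.2)⟩)
    (fun y hy => ⟨hy.1, h (u * v) (Or.inr (Or.inr rfl)) y hy.1 (mem_centralizer_singleton_iff.1 hy.2)⟩)
  exact (hle hx).2

/-- **A four-group normalising a Sylow subgroup**: a nontrivial class contains a nontrivial element of `S` commuting with one of
the three involutions. -/
theorem exists_of_klein (hp2 : p ≠ 2) {P : G → Prop} (hP : PCl p P) (S : Sylow p G) {u v : G}
    (hu : u * u = 1) (hv : v * v = 1) (huv : u * v = v * u) (huS : u ∈ normalizer ((S : Subgroup G) : Set G))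
    (hvS : v ∈ normalizer ((S : Subgroup G) : Set G)) {x : G} (hx : PEl p x) (hx1 : x ≠ 1) (hPx : P x) :
    ∃ t : G, (t = u ∨ t = v ∨ t = u * v) ∧ ∃ y ∈ (S : Subgroup G), y ≠ 1 ∧ y * t = t * y ∧ P y := by
  by_contra hcon
  push Not at hcon
  refine part_ne_bot hP S hx hx1 hPx ?_
  have hodd : Odd (Nat.card (part hP S)) := by
    obtain ⟨n, hn⟩ := IsPGroup.iff_card.mp (S.2.to_le (part_closed hP S).1)
    rw [hn]
    exact (hp.out.odd_of_ne_two hp2).pow
  rw [eq_bot_iff]
  refine Lib.KleinGen.le_of_klein (part hP S) ⊥ hodd u v hu hv huv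
    (fun y hy => ⟨(mem_normalizer_iff.1 huS y).1 hy.1, hP.conj u hy.2⟩)
    (fun y hy => ⟨(mem_normalizer_iff.1 hvS y).1 hy.1, hP.conj v hy.2⟩) ?_ ?_ ?_
  · intro y hy
    by_contra h1
    exact hcon u (Or.inl rfl) y hy.1.1 h1 (mem_centralizer_singleton_iff.1 hy.2) hy.1.2
  · intro y hy
    by_contra h1
    exact hcon v (Or.inr (Or.inl rfl)) y hy.1.1 h1 (mem_centralizer_singleton_iff.1 hy.2) hy.1.2
  · intro y hy
    by_contra h1
    exact hcon (u * v) (Or.inr (Or.inr rfl)) y hy.1.1 h1 (mem_centralizer_singleton_iff.1 hy.2) hy.1.2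

/-- **One class of involutions.** A four-group normalises a Sylow `p`-subgroup, its involutions are conjugate to `t`, and
`FullP p (C(t))`. -/
theorem fullP_of_klein (hp2 : p ≠ 2) (S : Sylow p G) {u v t : G}
    (hu : u * u = 1) (hv : v * v = 1) (huv : u * v = v * u) (huS : u ∈ normalizer ((S : Subgroup G) : Set G))
    (hvS : v ∈ normalizer ((S : Subgroup G) : Set G)) (hcu : IsConj t u) (hcv : IsConj t v) (hcw : IsConj t (u * v))
    (h : FullP p (centralizer ({t} : Set G))) : FullP p G := by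
  rintro P hP ⟨x, hx, hx1, hPx⟩ y hy
  obtain ⟨s, hs, z, hz, hz1, hzs, hPz⟩ := exists_of_klein hp2 hP S hu hv huv huS hvS hx hx1 hPx
  have hconj : ∀ s : G, (s = u ∨ s = v ∨ s = u * v) → ∃ g : G, g * t * g⁻¹ = s := by
    rintro s (rfl | rfl | rfl)
    · exact isConj_iff.1 hcu
    · exact isConj_iff.1 hcv
    · exact isConj_iff.1 hcw
  have key : ∀ s : G, (s = u ∨ s = v ∨ s = u * v) → ∀ y : G, PEl p y → y * s = s * y →
      ∃ g : G, (g⁻¹ * y * g) * t = t * (g⁻¹ * y * g) ∧ PEl p (g⁻¹ * y * g) ∧ (P (g⁻¹ * y * g) ↔ P y) := by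
    intro s hs y hy hys
    obtain ⟨g, rfl⟩ := hconj s hs
    refine ⟨g, ?_, by simpa using hy.conj g⁻¹, by simpa using hP.conj_iff (x := y) g⁻¹⟩
    calc g⁻¹ * y * g * t = g⁻¹ * (y * (g * t * g⁻¹)) * g := by group
      _ = g⁻¹ * ((g * t * g⁻¹) * y) * g := by rw [hys]
      _ = _ := by group
  obtain ⟨g, hg1, hg2, hg3⟩ := key s hs z (PEl.of_isPGroup S.2 hz) hzs
  have hall : ∀ y : G, PEl p y → y * t = t * y → P y := fun y hy hyt =>
    all_of_fullP_centralizer h hP hg2 (fun h => hz1 (by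
      have h2 : z = g * (g⁻¹ * z * g) * g⁻¹ := by group
      rw [h2, h]; group)) hg1 (hg3.2 hPz) hy hyt
  refine all_of_sylow hP S (fun y hy => ?_) hy
  refine all_of_klein hp2 hP S.2 hu hv huv (fun x hx => (mem_normalizer_iff.1 huS x).1 hx)
    (fun x hx => (mem_normalizer_iff.1 hvS x).1 hx) (fun s hs x hx hxs => ?_) hy
  obtain ⟨g, hg1, hg2, hg3⟩ := key s hs x (PEl.of_isPGroup S.2 hx) hxs
  exact hg3.1 (hall _ hg2 hg1)

/-- **Self-centralizing irreducible subgroups**: `E ≤ S` contains the centre of the Sylow subgroup `S`, and no proper nontrivial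
subgroup of `E` is invariant under `N(E)`: then `E` is in every nontrivial class. -/
theorem le_of_irreducible {P : G → Prop} (hP : PCl p P) (S : Sylow p G) {E : Subgroup G} (hES : E ≤ (S : Subgroup G))
    (hZ : (S : Subgroup G) ⊓ centralizer ((S : Subgroup G) : Set G) ≤ E)
    (hirr : ∀ U : Subgroup G, U ≤ E → U ≠ ⊥ → (∀ g : G, (∀ x ∈ E, g * x * g⁻¹ ∈ E) → ∀ x ∈ U, g * x * g⁻¹ ∈ U) → U = E)
    {x : G} (hx : PEl p x) (hx1 : x ≠ 1) (hPx : P x) {y : G} (hy : y ∈ E) : P y := by
  obtain ⟨d, hd, hd1, hdc⟩ := H280.StrongFusion.exists_mem_center S (part_closed hP S) (part_ne_bot hP S hx hx1 hPx)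
  have hdE : d ∈ E := hZ (mem_inf.2 ⟨hd.1, mem_centralizer_iff.2 fun s hs => hdc s hs⟩)
  have hEp := S.2.to_le hES
  let U : Subgroup G :=
    { carrier := {x | x ∈ E ∧ P x}
      one_mem' := ⟨one_mem _, hP.one⟩
      mul_mem' := fun hx hy => ⟨mul_mem hx.1 hy.1, hP.mul hEp hx.1 hy.1 hx.2 hy.2⟩
      inv_mem' := fun hx => ⟨inv_mem hx.1, hP.inv hx.2⟩ }
  have hU := hirr U (fun x hx => hx.1) (fun h => by
    have h1 : d ∈ U := ⟨hdE, hd.2⟩
    rw [h, mem_bot] at h1
    exact hd1 h1) (fun g hg x hx => ⟨hg x hx.1, hP.conj g hx.2⟩)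
  rw [← hU] at hy
  exact hy.2

end basic

end Cfsg.Agent.H792.SpTool
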