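import Cfsg.Agent.H792.SpNoT

/-!
# Explicit Sylow subgroups of order `p ^ 3` (helper792)

`exists_heis` : `x, y, z = [y, x]` of order `p`, `z` commuting with `x`, `y`: then `⟨x, y⟩` is a Sylow `p`-subgroup if
`p ^ 4` does not divide `|G|`.
`noT_of_heis` : if moreover `c` normalises `⟨x, y⟩` and no element `x`, `x ^ i * y` commutes with its conjugate under `c`,
then there is no strongly closed subgroup of order `p ^ 2`.
`full_or_nfus_of_heis`.
-/

set_option autoImplicit false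
set_option linter.unusedSectionVars false

namespace Cfsg.Agent.H792.SpCube

open Subgroup Cfsg Cfsg.Agent.H749 Cfsg.Agent.H792.SpTool
open scoped commutatorElement

variable {p : ℕ} [hp : Fact p.Prime] {G : Type*} [Group G] [Finite G]

theorem isP_zpowers {x : G} (h : x ^ p = 1) : IsPGroup p (zpowers x) := by
  intro y
  obtain ⟨k, hk⟩ := mem_zpowers_iff.1 y.2
  refine ⟨1, Subtype.ext ?_⟩
  show (y : G) ^ (p ^ 1) = 1
  rw [← hk, pow_one, ← zpow_natCast, ← zpow_mul, mul_comm, zpow_mul, zpow_natCast, h, one_zpow]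

/-- the relations of an extraspecial group of exponent `p` -/
structure Heis (p : ℕ) {G : Type*} [Group G] (x y z : G) : Prop where
  x_pow : x ^ p = 1
  y_pow : y ^ p = 1
  z_pow : z ^ p = 1
  xz : x * z = z * x
  yz : y * z = z * y
  yx : y * x = x * y * z
  z_ne : z ≠ 1

theorem Heis.isPGroup {x y z : G} (h : Heis p x y z) : IsPGroup p (zpowers y ⊔ (zpowers x ⊔ zpowers z) : Subgroup G) := by
  have h1 : IsPGroup p (zpowers x ⊔ zpowers z : Subgroup G) := by
    refine IsPGroup.to_sup_of_normal_right' (isP_zpowers h.x_pow) (isP_zpowers h.z_pow) ?_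
    rw [zpowers_le, mem_normalizer_iff]
    intro g
    constructor
    · rintro ⟨k, rfl⟩
      refine ⟨k, ?_⟩
      show z ^ k = x * z ^ k * x⁻¹
      rw [((show Commute x z from h.xz).zpow_right k).eq, mul_inv_cancel_right]
    · rintro ⟨k, hk⟩
      refine ⟨k, ?_⟩
      have hk' : z ^ k = x * g * x⁻¹ := hk
      show z ^ k = g
      have e : g = x⁻¹ * z ^ k * x := by rw [hk']; group
      rw [e, mul_assoc, ← ((show Commute x z from h.xz).zpow_right k).eq, inv_mul_cancel_left]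
  refine IsPGroup.to_sup_of_normal_right' (isP_zpowers h.y_pow) h1 ?_
  rw [zpowers_le]
  -- `y` normalises `⟨x, z⟩`
  have hle : ∀ g ∈ (zpowers x ⊔ zpowers z : Subgroup G), y * g * y⁻¹ ∈ (zpowers x ⊔ zpowers z : Subgroup G) := by
    have h2 : (zpowers x ⊔ zpowers z : Subgroup G) ≤ (zpowers x ⊔ zpowers z : Subgroup G).comap
        (MulAut.conj y).toMonoidHom := by
      refine sup_le ?_ ?_
      · rw [zpowers_le]
        show y * x * y⁻¹ ∈ (zpowers x ⊔ zpowers z : Subgroup G)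
        rw [h.yx, mul_assoc x, h.yz, ← mul_assoc, mul_inv_cancel_right]
        exact mul_mem ((le_sup_left : zpowers x ≤ zpowers x ⊔ zpowers z) (mem_zpowers x))
          ((le_sup_right : zpowers z ≤ zpowers x ⊔ zpowers z) (mem_zpowers z))
      · rw [zpowers_le]
        show y * z * y⁻¹ ∈ (zpowers x ⊔ zpowers z : Subgroup G)
        rw [h.yz, mul_inv_cancel_right]
        exact (le_sup_right : zpowers z ≤ zpowers x ⊔ zpowers z) (mem_zpowers z)
    exact fun g hg => h2 hg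
  have hmap : (zpowers x ⊔ zpowers z : Subgroup G).map (MulAut.conj y).toMonoidHom = (zpowers x ⊔ zpowers z : Subgroup G) := by
    refine Subgroup.eq_of_le_of_card_ge ?_ (by rw [card_map_conj])
    rintro _ ⟨g, hg, rfl⟩
    exact hle g hg
  rw [mem_normalizer_iff]
  intro g
  refine ⟨hle g, fun hg => ?_⟩
  rw [← hmap] at hg
  obtain ⟨g', hg', e⟩ := hg
  have e' : y * g' * y⁻¹ = y * g * y⁻¹ := e
  have : g' = g := mul_left_cancel (mul_right_cancel e')
  rwa [← this]

theorem Heis.noncomm {x y z : G} (h : Heis p x y z) : y * x ≠ x * y := by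
  intro e
  apply h.z_ne
  have := h.yx
  rw [e] at this
  exact (mul_eq_left.1 this.symm)

theorem exists_heis (h4 : ¬ p ^ 4 ∣ Nat.card G) {x y z : G} (h : Heis p x y z) :
    ∃ S : Sylow p G, (S : Subgroup G) = zpowers y ⊔ (zpowers x ⊔ zpowers z) ∧ Nat.card (S : Subgroup G) = p ^ 3 := by
  obtain ⟨S, hS⟩ := h.isPGroup.exists_le_sylow
  have hx : x ∈ zpowers y ⊔ (zpowers x ⊔ zpowers z) :=
    (le_sup_right : zpowers x ⊔ zpowers z ≤ zpowers y ⊔ (zpowers x ⊔ zpowers z))
      ((le_sup_left : zpowers x ≤ zpowers x ⊔ zpowers z) (mem_zpowers x))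
  have hy : y ∈ zpowers y ⊔ (zpowers x ⊔ zpowers z) :=
    (le_sup_left : zpowers y ≤ zpowers y ⊔ (zpowers x ⊔ zpowers z)) (mem_zpowers y)
  -- nonabelian `p`-groups have order at least `p ^ 3`
  have key : ∀ A : Subgroup G, IsPGroup p A → x ∈ A → y ∈ A → p ^ 3 ∣ Nat.card A := by
    intro A hA hxA hyA
    obtain ⟨n, hn⟩ := IsPGroup.iff_card.mp hA
    rw [hn]
    refine pow_dvd_pow p ?_
    by_contra hlt
    apply h.noncomm
    have hcomm : ∀ a b : A, a * b = b * a := by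
      have h2 : n = 0 ∨ n = 1 ∨ n = 2 := by omega
      rcases h2 with rfl | rfl | rfl
      · rw [pow_zero, Subgroup.card_eq_one] at hn
        intro a b
        have ha : (a : G) = 1 := mem_bot.1 (hn.le a.2)
        have hb : (b : G) = 1 := mem_bot.1 (hn.le b.2)
        exact Subtype.ext (by rw [coe_mul, coe_mul, ha, hb])
      · rw [pow_one] at hn
        have : IsCyclic A := isCyclic_of_prime_card hn
        exact fun a b => (IsCyclic.commGroup (α := A)).mul_comm a b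
      · exact (IsPGroup.isMulCommutative_of_card_eq_prime_sq hn).1.1
    exact congrArg Subtype.val (hcomm ⟨y, hyA⟩ ⟨x, hxA⟩)
  have h5 : Nat.card (S : Subgroup G) = p ^ 3 := by
    refine Nat.dvd_antisymm ?_ (key _ S.2 (hS hx) (hS hy))
    obtain ⟨n, hn⟩ := IsPGroup.iff_card.mp S.2
    rw [hn]
    refine pow_dvd_pow p ?_
    by_contra hlt
    exact h4 ((pow_dvd_pow p (by omega : 4 ≤ n)).trans (by rw [← hn]; exact Subgroup.card_subgroup_dvd_card _))
  refine ⟨S, (Subgroup.eq_of_le_of_card_ge hS ?_).symm, h5⟩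
  rw [h5]
  exact Nat.le_of_dvd Nat.card_pos (key _ h.isPGroup hx hy)

theorem noT_of_six (S : Sylow p G) (hS : Nat.card (S : Subgroup G) = p ^ 3) {x y c : G} (hx : x ∈ (S : Subgroup G))
    (hy : y ∈ (S : Subgroup G)) (hxp : x ^ p = 1) (hc : ∀ s ∈ (S : Subgroup G), c * s * c⁻¹ ∈ (S : Subgroup G))
    (h0 : c * x * c⁻¹ * x ≠ x * (c * x * c⁻¹))
    (h1 : ∀ i < p, c * (x ^ i * y) * c⁻¹ * (x ^ i * y) ≠ (x ^ i * y) * (c * (x ^ i * y) * c⁻¹)) : NoT p G := by
  refine noT_of_one S fun T hT hTc => ?_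
  have hTS := hT.1
  have hcomm : ∀ a ∈ T, ∀ b ∈ T, a * b = b * a := fun a ha b hb =>
    congrArg Subtype.val ((IsPGroup.isMulCommutative_of_card_eq_prime_sq hTc).1.1 ⟨a, ha⟩ ⟨b, hb⟩)
  have hcT : ∀ t ∈ T, c * t * c⁻¹ ∈ T := fun t ht => hT.2 t ht c (hc t (hTS ht))
  have hxT : x ∉ T := fun h => h0 (hcomm _ (hcT x h) _ h)
  -- the quotient `S / T` has order `p`
  let T' : Subgroup (S : Subgroup G) := T.subgroupOf (S : Subgroup G)
  have hn : T'.Normal := by
    refine ⟨fun t ht s => ?_⟩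
    exact hT.2 _ ht (s : G) (mul_mem (mul_mem s.2 (hTS ht)) (inv_mem s.2))
  have hT'c : Nat.card T' = p ^ 2 := by
    rw [← hTc]; exact Nat.card_congr (Subgroup.subgroupOfEquivOfLe hTS).toEquiv
  have hq : Nat.card ((S : Subgroup G) ⧸ T') = p := by
    have h2 := Subgroup.card_eq_card_quotient_mul_card_subgroup T'
    rw [hT'c, hS] at h2
    have h3 : p ^ 3 = p * p ^ 2 := by ring
    rw [h3] at h2
    exact (Nat.eq_of_mul_eq_mul_right (pow_pos hp.out.pos 2) h2).symm
  let X : (S : Subgroup G) ⧸ T' := QuotientGroup.mk ⟨x, hx⟩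
  let Y : (S : Subgroup G) ⧸ T' := QuotientGroup.mk ⟨y, hy⟩
  have hX : X ≠ 1 := by
    intro h
    have h2 : (⟨x, hx⟩ : (S : Subgroup G)) ∈ T' := (QuotientGroup.eq_one_iff _).1 h
    exact hxT h2
  have hYX : Y⁻¹ ∈ zpowers X := by
    have h2 : zpowers X = ⊤ := by
      refine Subgroup.eq_top_of_card_eq _ ?_
      rw [hq]
      have h3 : Nat.card (zpowers X) ∣ p := (Subgroup.card_subgroup_dvd_card _).trans hq.dvd
      rcases (Nat.dvd_prime hp.out).1 h3 with h4 | h4
      · rw [Subgroup.card_eq_one, zpowers_eq_bot] at h4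
        exact absurd h4 hX
      · exact h4
    rw [h2]; exact mem_top _
  obtain ⟨k, hk⟩ := mem_zpowers_iff.1 hYX
  -- reduce the exponent
  obtain ⟨i, hi, hik⟩ : ∃ i < p, X ^ i = Y⁻¹ := by
    refine ⟨(k % p).toNat, ?_, ?_⟩
    · have h2 := Int.emod_lt_of_pos k (by exact_mod_cast hp.out.pos : (0 : ℤ) < p)
      have h3 := Int.emod_nonneg k (by exact_mod_cast hp.out.ne_zero : (p : ℤ) ≠ 0)
      omega
    · have h3 := Int.emod_nonneg k (by exact_mod_cast hp.out.ne_zero : (p : ℤ) ≠ 0)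
      have hXp : X ^ p = 1 := by
        rw [← QuotientGroup.mk_pow, QuotientGroup.eq_one_iff]
        show ((⟨x, hx⟩ : (S : Subgroup G)) ^ p : (S : Subgroup G)).1 ∈ T
        rw [SubmonoidClass.coe_pow, hxp]
        exact one_mem T
      rw [← zpow_natCast, Int.toNat_of_nonneg h3, ← hk]
      conv_rhs => rw [← Int.emod_add_mul_ediv k p, zpow_add, zpow_mul, zpow_natCast, hXp, one_zpow, mul_one]
  have hmem : x ^ i * y ∈ T := by
    have h2 : (QuotientGroup.mk (⟨x, hx⟩ ^ i * ⟨y, hy⟩ : (S : Subgroup G)) : (S : Subgroup G) ⧸ T') = 1 := by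
      rw [QuotientGroup.mk_mul, QuotientGroup.mk_pow]
      show X ^ i * Y = 1
      rw [hik, inv_mul_cancel]
    have h3 := (QuotientGroup.eq_one_iff _).1 h2
    exact h3
  exact h1 i hi (hcomm _ (hcT _ hmem) _ hmem)

/-- **The explicit criterion.** -/
theorem noT_of_heis (h4 : ¬ p ^ 4 ∣ Nat.card G) {x y z c : G} (h : Heis p x y z)
    (hcx : c * x * c⁻¹ ∈ (zpowers y ⊔ (zpowers x ⊔ zpowers z) : Subgroup G))
    (hcy : c * y * c⁻¹ ∈ (zpowers y ⊔ (zpowers x ⊔ zpowers z) : Subgroup G))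
    (h0 : c * x * c⁻¹ * x ≠ x * (c * x * c⁻¹))
    (h1 : ∀ i < p, c * (x ^ i * y) * c⁻¹ * (x ^ i * y) ≠ (x ^ i * y) * (c * (x ^ i * y) * c⁻¹)) : NoT p G := by
  obtain ⟨S, hSe, hS⟩ := exists_heis h4 h
  have hx : x ∈ (S : Subgroup G) := by
    rw [hSe]
    exact (le_sup_right : zpowers x ⊔ zpowers z ≤ zpowers y ⊔ (zpowers x ⊔ zpowers z))
      ((le_sup_left : zpowers x ≤ zpowers x ⊔ zpowers z) (mem_zpowers x))
  have hy : y ∈ (S : Subgroup G) := by
    rw [hSe]
    exact (le_sup_left : zpowers y ≤ zpowers y ⊔ (zpowers x ⊔ zpowers z)) (mem_zpowers y)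
  refine noT_of_six S hS hx hy h.x_pow ?_ h0 h1
  have hle : (S : Subgroup G) ≤ (S : Subgroup G).comap (MulAut.conj c).toMonoidHom := by
    conv_lhs => rw [hSe]
    refine sup_le ?_ (sup_le ?_ ?_)
    · rw [zpowers_le]
      show c * y * c⁻¹ ∈ (S : Subgroup G)
      rw [hSe]; exact hcy
    · rw [zpowers_le]
      show c * x * c⁻¹ ∈ (S : Subgroup G)
      rw [hSe]; exact hcx
    · rw [zpowers_le]
      show c * z * c⁻¹ ∈ (S : Subgroup G)
      have e : z = (x * y)⁻¹ * (y * x) := by rw [h.yx, inv_mul_cancel_left]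
      have e' : c * z * c⁻¹ = ((c * x * c⁻¹) * (c * y * c⁻¹))⁻¹ * ((c * y * c⁻¹) * (c * x * c⁻¹)) := by
        rw [e]; group
      rw [e']
      have hcx' : c * x * c⁻¹ ∈ (S : Subgroup G) := by rw [hSe]; exact hcx
      have hcy' : c * y * c⁻¹ ∈ (S : Subgroup G) := by rw [hSe]; exact hcy
      exact mul_mem (inv_mem (mul_mem hcx' hcy')) (mul_mem hcy' hcx')
  exact fun s hs => hle hs

theorem full_or_nfus_of_heis (h4 : ¬ p ^ 4 ∣ Nat.card G) {x y z : G} (h : Heis p x y z) (hT : NoT p G) :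
    FullP p G ∨ H794.NFus p G := by
  obtain ⟨S, hSe, hS⟩ := exists_heis h4 h
  have hx : x ∈ (S : Subgroup G) := by
    rw [hSe]
    exact (le_sup_right : zpowers x ⊔ zpowers z ≤ zpowers y ⊔ (zpowers x ⊔ zpowers z))
      ((le_sup_left : zpowers x ≤ zpowers x ⊔ zpowers z) (mem_zpowers x))
  have hy : y ∈ (S : Subgroup G) := by
    rw [hSe]
    exact (le_sup_left : zpowers y ≤ zpowers y ⊔ (zpowers x ⊔ zpowers z)) (mem_zpowers y)
  exact full_or_nfus_of_one S hS ⟨y, hy, x, hx, h.noncomm⟩ hT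

/-- an overgroup of index prime to `p` -/
theorem full_or_nfus_of_hom {H : Type*} [Group H] [Finite H] (f : H →* G) (hf : Function.Injective f)
    (hi : ¬ p ∣ f.range.index) (h4 : ¬ p ^ 4 ∣ Nat.card H) {x y z : H} (h : Heis p x y z) (hT : NoT p H) :
    FullP p G ∨ H794.NFus p G := by
  have h4' : ¬ p ^ 4 ∣ Nat.card G := by
    intro h5
    apply h4
    rw [← f.range.card_mul_index] at h5
    have h3 : Nat.card f.range = Nat.card H := (Nat.card_congr (MonoidHom.ofInjective hf).toEquiv).symm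
    rw [h3] at h5
    exact Nat.Coprime.dvd_of_dvd_mul_right ((Nat.Prime.coprime_iff_not_dvd hp.out).2 hi |>.pow_left 4) h5
  refine full_or_nfus_of_heis h4' (x := f x) (y := f y) (z := f z) ⟨?_, ?_, ?_, ?_, ?_, ?_, ?_⟩
    (NoT.of_injective f hf hi hT)
  · rw [← map_pow, h.x_pow, map_one]
  · rw [← map_pow, h.y_pow, map_one]
  · rw [← map_pow, h.z_pow, map_one]
  · rw [← map_mul, h.xz, map_mul]
  · rw [← map_mul, h.yz, map_mul]
  · rw [← map_mul, h.yx, map_mul, map_mul]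
  · exact fun e => h.z_ne (hf (e.trans (map_one f).symm))

end Cfsg.Agent.H792.SpCube
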