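import Cfsg.Agent.H792.Sp.Final
import Cfsg.Agent.H749.Classical
import Cfsg.Agent.H629.ExcFinal
import Cfsg.Agent.H790.TriMain
import Cfsg.Agent.H760.TwFFull
import Cfsg.Agent.H181.OctRow
import Cfsg.Agent.H638.G2Iso
import Cfsg.Agent.H794.TwoClosed
import Cfsg.Agent.Mrg.Omega.EH3.Rank1.Suz

/-!
# The theorem of Flores and Foote from its rows (helper792)

* `odd_row` : `G` a known simple group, `p` odd: `FullP p G`, `NFus p G` or `G` is `G₂(q)`, `p = 3`, `9 ∣ q² - 1`;
* `main` : S5116 from the list (`IsKnownSimple' G`), S1252 (`Concl G`) and the row `E₈(q)`, `p = 5`, `5 ∣ q² + 1`.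
-/

set_option autoImplicit false
set_option linter.unusedSectionVars false

namespace Cfsg.Agent.H792.FF

open Subgroup Cfsg Cfsg.Agent.H749

universe u

/-- the exceptional case -/
def GTwo (p : ℕ) (G : Type*) [Group G] : Prop :=
  p = 3 ∧ ∃ (F : Type) (_ : Field F) (_ : Fintype F), (3 : F) ≠ 0 ∧ 9 ∣ Nat.card F ^ 2 - 1 ∧
    Nonempty (G ≃* ↥(Cfsg.Lie.G2 F))

section
variable {p : ℕ} [hp : Fact p.Prime] {G : Type u} [Group G] [Finite G]

/-- the three possible outcomes -/
def Res (p : ℕ) (G : Type*) [Group G] : Prop := FullP p G ∨ H794.NFus p G ∨ GTwo p G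

theorem res_of_abP (h : ∀ P : Subgroup G, IsPGroup p P → ∀ a ∈ P, ∀ b ∈ P, a * b = b * a) : Res p G := by
  refine Or.inr (Or.inl (H794.NFus.of_comm fun S => ?_))
  exact ⟨⟨fun a b => Subtype.ext (h S S.isPGroup' a a.2 b b.2)⟩⟩

theorem res_of_dich (h : Dich p G) : Res p G := by
  rcases h with h | h
  · exact Or.inl h
  · exact res_of_abP h

theorem res_of_full_or_nfus (h : FullP p G ∨ H794.NFus p G) : Res p G := by
  rcases h with h | h
  · exact Or.inl h
  · exact Or.inr (Or.inl h)

theorem res_of_char [IsSimpleGroup G] (hp2 : p ≠ 2) (hna : ¬ IsMulCommutative G) (h : IsLieTypeChar p G) : Res p G := by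
  rcases H794.DefClosed.full_or_ti hp2 hna h with h | h
  · exact Or.inl (SpTool.fullP_of_full h)
  · exact Or.inr (Or.inl (H794.NFus.of_ti h))

theorem isLieTypeChar_of_excChar (h : H790.ExcAb.ExcChar p G) : IsLieTypeChar p G := by
  unfold IsLieTypeChar
  rcases h with ⟨F, h⟩ | ⟨K, q, hq, h⟩
  · have h1 : IsExceptionalChevChar p G := ⟨F, inferInstance, inferInstance, inferInstance, h⟩
    tauto
  · have h1 : IsTwistedE6D4Char p G := ⟨K, inferInstance, inferInstance, inferInstance, q, hq, h⟩
    tauto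

theorem res_exc [IsSimpleGroup G] (hp2 : p ≠ 2) (hna : ¬ IsMulCommutative G) (h : IsExceptionalLieType G)
    (hR : H629.ExcFinal.RestFive p G → FullP p G) : Res p G := by
  by_cases hp3 : p = 3
  · subst hp3
    rcases H629.ExcFinal.exc_three h with h | h | h | h
    · exact Or.inl h
    · exact res_of_char hp2 hna (isLieTypeChar_of_excChar h)
    · exact Or.inl (SpTool.fullP_of_card fun h9 =>
        Omega.EH3.Rank1.not_three_dvd h ((by norm_num : (3 : ℕ) ∣ 3 ^ 2).trans h9))
    · rcases h with ⟨F, h3, h, ⟨e⟩⟩ | ⟨K, q, hq, hK, h, ⟨e⟩⟩ | h | h | h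
      · obtain ⟨f⟩ := H638.G2Iso.equiv (F := F)
        have h30 : (3 : F) ≠ 0 := H629.ExcFinal.ne_zero_of_not_dvd h
        rcases H181.OctHerm.row h30 (e.trans f.symm) with ⟨h9, -⟩ | ⟨-, h⟩
        · exact Or.inr (Or.inr ⟨rfl, F, inferInstance, inferInstance, h30, h9, ⟨e.trans f.symm⟩⟩)
        · exact Or.inr (Or.inl h)
      · have h30 : (3 : K) ≠ 0 := by
          refine H629.ExcFinal.ne_zero_of_not_dvd fun hd => h ?_
          rw [hK] at hd
          exact Nat.prime_three.dvd_of_dvd_pow hd
        exact Or.inl ((H790.TriMain.fullP_twD4 h30 hq hK).of_mulEquiv e.symm)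
      · exact res_of_char hp2 hna (by unfold IsLieTypeChar; tauto)
      · exact Or.inl (H760.TwFFull.fullP_twF4_three h)
      · exact res_of_full_or_nfus (SpAll.tits_full_or_nfus h hp2)
  · have h5 : 5 ≤ p := by
      have h2 := hp.out.two_le
      have h4 : p ≠ 4 := by
        rintro rfl
        exact absurd hp.out (by norm_num)
      omega
    rcases H629.ExcFinal.exc_five h h5 with h | h | h | h
    · exact res_of_abP h
    · exact res_of_char hp2 hna (isLieTypeChar_of_excChar h)
    · exact Or.inl h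
    · exact Or.inl (hR h)

/-- **The rows, `p` odd.** -/
theorem odd_row [IsSimpleGroup G] (hp2 : p ≠ 2) (hna : ¬ IsMulCommutative G) (hK : IsKnownSimple' G)
    (hR : H629.ExcFinal.RestFive p G → FullP p G) : Res p G := by
  rcases hK with h | h | h | h | h | h | h | h | h | h
  · have hf : Fact (Nat.card G).Prime := ⟨h⟩
    have hc : IsCyclic G := isCyclic_of_prime_card rfl
    exact absurd (IsCyclic.isMulCommutative (α := G)) hna
  · exact Or.inl (SpTool.fullP_of_full (H794.full_alt hp2 h))
  · rcases row_classical hp2 (Or.inl h) with h | h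
    · exact res_of_char hp2 hna h
    · exact res_of_dich h
  · rcases row_classical hp2 (Or.inr (Or.inl h)) with h | h
    · exact res_of_char hp2 hna h
    · exact res_of_dich h
  · rcases row_classical hp2 (Or.inr (Or.inr (Or.inl h))) with h | h
    · exact res_of_char hp2 hna h
    · exact res_of_dich h
  · rcases row_classical hp2 (Or.inr (Or.inr (Or.inr (Or.inl h)))) with h | h
    · exact res_of_char hp2 hna h
    · exact res_of_dich h
  · rcases row_classical hp2 (Or.inr (Or.inr (Or.inr (Or.inr (Or.inl h))))) with h | h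
    · exact res_of_char hp2 hna h
    · exact res_of_dich h
  · rcases row_classical hp2 (Or.inr (Or.inr (Or.inr (Or.inr (Or.inr h))))) with h | h
    · exact res_of_char hp2 hna h
    · exact res_of_dich h
  · exact res_exc hp2 hna h hR
  · exact res_of_full_or_nfus (SpAll.spor_full_or_nfus_odd h hp2)

theorem mod_nine {q : ℕ} (hq : 0 < q) (h : 9 ∣ q ^ 2 - 1) : q % 9 = 1 ∨ q % 9 = 8 := by
  have h1 : q ^ 2 % 9 = 1 := by
    have h2 : 1 ≤ q ^ 2 := Nat.one_le_pow _ _ hq
    omega
  rw [Nat.pow_mod] at h1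
  have h3 : q % 9 < 9 := Nat.mod_lt _ (by norm_num)
  interval_cases h4 : q % 9 <;> simp_all

/-- **The theorem of Flores and Foote.** -/
theorem main [IsSimpleGroup G] (hna : ¬ IsMulCommutative G) (hK : IsKnownSimple' G) (h2 : H794.TwoClosed.Concl G)
    (hR : H629.ExcFinal.RestFive p G → FullP p G) (S : Sylow p G) (T : Subgroup G) (hT : T ≠ ⊥)
    (hTS : T < (S : Subgroup G)) (hsc : IsStronglyClosed T (S : Subgroup G)) :
    (groupFusionSystem (S : Subgroup G)).IsNormal S ∨ (p = 3 ∧ (∃ (F : Type) (_ : Field F) (_ : Fintype F),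
      (Fintype.card F % 9 = 1 ∨ Fintype.card F % 9 = 8) ∧ Nonempty (G ≃* ↥(Cfsg.Lie.G2 F))) ∧
      T = (S : Subgroup G) ⊓ Subgroup.centralizer ((S : Subgroup G) : Set G) ∧ Nat.card T = 3) := by
  by_cases hp2 : p = 2
  · subst hp2
    rcases H794.TwoClosed.two_row hna h2 with h | h
    · rcases h S T hsc with h | h
      · exact absurd h hT
      · exact absurd h hTS.ne
    · exact Or.inl ((H794.NFus.of_ti h).isNormal S)
  · rcases odd_row hp2 hna hK hR with h | h | ⟨rfl, F, _, _, h3, h9, ⟨e⟩⟩
    · rcases SpTool.full_of_fullP h S T hsc with h | h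
      · exact absurd h hT
      · exact absurd h hTS.ne
    · exact Or.inl (h.isNormal S)
    · rcases H181.OctHerm.row h3 e with ⟨-, h⟩ | ⟨h, -⟩
      · rcases h S T hsc with h | h | h
        · exact absurd h hT
        · exact absurd h hTS.ne
        · refine Or.inr ⟨rfl, ⟨F, inferInstance, inferInstance, ?_, ⟨e⟩⟩, h.1, h.2⟩
          rw [Nat.card_eq_fintype_card] at h9
          exact mod_nine Fintype.card_pos h9
      · exact absurd h9 h

end

end Cfsg.Agent.H792.FF
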