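import Cfsg.Agent.H792.NormalCrit
/-!
# Invariant subsystems: transport by `Aut_F(T)`, normal subgroups of an invariant subsystem
-/
set_option autoImplicit false

namespace Cfsg.Agent.H792
open Cfsg Cfsg.FusionSystem

variable {Ω : Type*} [Group Ω] {S : Subgroup Ω} {p : ℕ}

/-- A subgroup strongly closed in `F` and contained in `T` is strongly closed in every subsystem over `T`. -/
theorem stronglyClosed_of_isSubsystemOf {T : Subgroup Ω} {E : FusionSystem T} {F : FusionSystem S}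
    (h : E.IsSubsystemOf F) {Q : Subgroup Ω} (hQ : F.StronglyClosed Q) (hQT : Q ≤ T) :
    E.StronglyClosed Q :=
  ⟨hQT, fun R hR φ hφ x => hQ.2 R hR φ (h R hφ) x⟩

/-- The join of a set of normal subgroups is normal. -/
theorem isNormal_sSup [Finite S] {F : FusionSystem S} {𝒬 : Set (Subgroup Ω)}
    (h : ∀ Q ∈ 𝒬, F.IsNormal Q) : F.IsNormal (sSup 𝒬) := by
  have hfin : {Q : Subgroup Ω | Q ≤ S}.Finite := by
    have h2 : {Q : Subgroup Ω | Q ≤ S} ⊆ Set.range (fun H : Subgroup S => H.map S.subtype) := by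
      intro Q hQ
      refine ⟨Q.subgroupOf S, ?_⟩
      simp only [Subgroup.map_subgroupOf_eq_of_le (show Q ≤ S from hQ)]
    exact (Set.finite_range _).subset h2
  have h𝒬 : 𝒬.Finite := hfin.subset (fun Q hQ => (h Q hQ).1)
  induction 𝒬, h𝒬 using Set.Finite.induction_on with
  | empty =>
    rw [sSup_empty]
    exact H759.isNormal_bot
  | @insert a s _ _ ih =>
    rw [sSup_insert]
    exact H759.IsNormal.sup (h a (Set.mem_insert _ _)) (ih fun Q hQ => h Q (Set.mem_insert_of_mem _ hQ))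

/-- Transport of a map of an invariant subsystem by an element of `Aut_F(T)`, pointwise form. -/
theorem invariant_transport {T : Subgroup Ω} {E : FusionSystem T} {F : FusionSystem S}
    (hE : E.IsInvariantIn F) {α : MulAut T} (hα : α ∈ F.autGroup T) {P : Subgroup Ω} {φ : P →* Ω}
    (hφ : φ ∈ E.Hom P) {P' : Subgroup Ω} {χ : P' →* Ω}
    (h : ∀ y : P', ∃ (x : P) (hx : (x : Ω) ∈ T) (hφx : φ x ∈ T),
      (y : Ω) = (α ⟨x, hx⟩ : T) ∧ χ y = (α ⟨φ x, hφx⟩ : T)) : χ ∈ E.Hom P' := by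
  have hPT : P ≤ T := H802.hom_le hφ
  obtain ⟨χ₀, hχ₀, hχe⟩ := hE.2.2.1 P hPT φ hφ α hα
  have hle : P' ≤ (P.subgroupOf T).map (T.subtype.comp α.toMonoidHom) := by
    intro y hy
    obtain ⟨x, hx, hφx, h1, h2⟩ := h ⟨y, hy⟩
    exact ⟨⟨x, hx⟩, x.2, h1.symm⟩
  refine H802.mem_of_agree hχ₀ hle (fun y hy => ?_)
  obtain ⟨x, hx, hφx, h1, h2⟩ := h ⟨y, hy⟩
  rw [h2]
  have h3 : (y : Ω) = (α ⟨x, hx⟩ : T) := h1
  have h4 : ((α ⟨x, hPT x.2⟩ : T) : Ω) ∈ (P.subgroupOf T).map (T.subtype.comp α.toMonoidHom) :=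
    ⟨⟨x, hx⟩, x.2, rfl⟩
  rw [← hχe x hφx h4]
  congr 1
  exact Subtype.ext h3.symm

/-- Existence form of the transport by `α ∈ Aut_F(T)`. -/
theorem invariant_exists {T : Subgroup Ω} {E : FusionSystem T} {F : FusionSystem S}
    (hE : E.IsInvariantIn F) {α : MulAut T} (hα : α ∈ F.autGroup T) {P : Subgroup Ω} {φ : P →* Ω}
    (hφ : φ ∈ E.Hom P) :
    ∃ χ ∈ E.Hom ((P.subgroupOf T).map (T.subtype.comp α.toMonoidHom)),
      ∀ (x : P) (hx : (x : Ω) ∈ T) (hφx : φ x ∈ T)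
        (hαx : ((α ⟨x, hx⟩ : T) : Ω) ∈ (P.subgroupOf T).map (T.subtype.comp α.toMonoidHom)),
        χ ⟨(α ⟨x, hx⟩ : T), hαx⟩ = ((α ⟨φ x, hφx⟩ : T) : Ω) := by
  have hPT : P ≤ T := H802.hom_le hφ
  obtain ⟨χ₀, hχ₀, hχe⟩ := hE.2.2.1 P hPT φ hφ α hα
  exact ⟨χ₀, hχ₀, fun x hx hφx hαx => hχe x hφx hαx⟩

/-- The image under `α ∈ Aut_F(T)` of a subgroup normal in the invariant subsystem `E` over `T` is again
normal in `E`. -/
theorem isNormal_image [Finite S] {T : Subgroup Ω} {E : FusionSystem T} {F : FusionSystem S}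
    (hE : E.IsInvariantIn F) {α : MulAut T} (hα : α ∈ F.autGroup T) {R : Subgroup Ω}
    (hR : E.IsNormal R) : E.IsNormal ((R.subgroupOf T).map (T.subtype.comp α.toMonoidHom)) := by
  have hTS : T ≤ S := hE.2.1.1
  have hfinT : Finite T := H802.finite_of_le hTS
  have hRT : R ≤ T := hR.1
  set R' := (R.subgroupOf T).map (T.subtype.comp α.toMonoidHom) with hR'
  have hαi : α⁻¹ ∈ F.autGroup T := (F.autGroup T).inv_mem hα
  have hR'T : R' ≤ T := by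
    rintro _ ⟨y, -, rfl⟩
    exact (α y).2
  have hmem : ∀ (x : T), ((α x : T) : Ω) ∈ R' ↔ (x : Ω) ∈ R := by
    intro x
    constructor
    · rintro ⟨y, hy, hyx⟩
      have : y = x := by
        have h1 : (α y : T) = α x := Subtype.ext hyx
        exact α.injective h1
      rw [← this]
      exact hy
    · intro hx
      exact ⟨x, hx, rfl⟩
  have hmem' : ∀ (x : T), ((α⁻¹ x : T) : Ω) ∈ R ↔ (x : Ω) ∈ R' := by
    intro x
    rw [← hmem (α⁻¹ x), MulAut.apply_inv_self]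
  have hRsc : E.StronglyClosed R := H759.IsNormal.stronglyClosed hR
  refine H759.isNormal_of_extends ⟨hR'T, fun P hP φ hφ x => ?_⟩ (fun P φ hφ => ?_)
  · -- strongly closed
    obtain ⟨φ₁, hφ₁, h1⟩ := invariant_exists hE hαi hφ
    have hPT : P ≤ T := hP.trans hR'T
    have hxT : (x : Ω) ∈ T := hPT x.2
    have hφx : φ x ∈ T := H802.hom_apply_mem hφ x
    have hm : ((α⁻¹ ⟨x, hxT⟩ : T) : Ω) ∈ (P.subgroupOf T).map (T.subtype.comp (α⁻¹).toMonoidHom) :=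
      ⟨⟨x, hxT⟩, x.2, rfl⟩
    have h2 := h1 x hxT hφx hm
    have h3 : φ₁ ⟨((α⁻¹ ⟨x, hxT⟩ : T) : Ω), hm⟩ ∈ R := by
      refine hRsc.2 _ ?_ φ₁ hφ₁ _
      rintro _ ⟨y, hy, rfl⟩
      exact (hmem' y).2 (hP hy)
    rw [h2] at h3
    exact (hmem' ⟨φ x, hφx⟩).1 h3
  · -- extension
    have hPT : P ≤ T := H802.hom_le hφ
    obtain ⟨φ₁, hφ₁, h1⟩ := invariant_exists hE hαi hφ
    obtain ⟨ψ₁, hψ₁, h2, h3⟩ := hR.2 _ φ₁ hφ₁
    obtain ⟨χ, hχ, h4⟩ := invariant_exists hE hα hψ₁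
    have hle : P ⊔ R' ≤ (((P.subgroupOf T).map (T.subtype.comp (α⁻¹).toMonoidHom) ⊔ R).subgroupOf
        T).map (T.subtype.comp α.toMonoidHom) := by
      refine sup_le ?_ ?_
      · intro x hx
        refine ⟨α⁻¹ ⟨x, hPT hx⟩, ?_, ?_⟩
        · exact (le_sup_left : _ ≤ (P.subgroupOf T).map (T.subtype.comp (α⁻¹).toMonoidHom) ⊔ R)
            ⟨⟨x, hPT hx⟩, hx, rfl⟩
        · show ((α (α⁻¹ ⟨x, hPT hx⟩) : T) : Ω) = x
          rw [MulAut.apply_inv_self]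
      · rintro _ ⟨y, hy, rfl⟩
        exact ⟨y, (le_sup_right : _ ≤ (P.subgroupOf T).map (T.subtype.comp (α⁻¹).toMonoidHom) ⊔ R) hy,
          rfl⟩
    refine ⟨χ.comp (Subgroup.inclusion hle), H802.restrict_mem hχ hle, fun x hx => ?_⟩
    have hxT : (x : Ω) ∈ T := hPT x.2
    have hφx : φ x ∈ T := H802.hom_apply_mem hφ x
    have hm : ((α⁻¹ ⟨x, hxT⟩ : T) : Ω) ∈ (P.subgroupOf T).map (T.subtype.comp (α⁻¹).toMonoidHom) :=
      ⟨⟨x, hxT⟩, x.2, rfl⟩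
    have h5 := h1 x hxT hφx hm
    have h6 := h2 ⟨((α⁻¹ ⟨x, hxT⟩ : T) : Ω), hm⟩
    rw [h5] at h6
    have h7 : ψ₁ (Subgroup.inclusion le_sup_left ⟨((α⁻¹ ⟨x, hxT⟩ : T) : Ω), hm⟩) ∈ T :=
      H802.hom_apply_mem hψ₁ _
    have h9 : ((α (α⁻¹ ⟨x, hxT⟩) : T) : Ω) = x := by rw [MulAut.apply_inv_self]
    have h8 := h4 (Subgroup.inclusion le_sup_left ⟨((α⁻¹ ⟨x, hxT⟩ : T) : Ω), hm⟩)
      (α⁻¹ ⟨x, hxT⟩).2 h7 (by
        show ((α (α⁻¹ ⟨x, hxT⟩) : T) : Ω) ∈ _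
        exact h9.symm ▸ hle hx)
    have h10 : (⟨ψ₁ (Subgroup.inclusion le_sup_left ⟨((α⁻¹ ⟨x, hxT⟩ : T) : Ω), hm⟩), h7⟩ : T) =
        α⁻¹ ⟨φ x, hφx⟩ := Subtype.ext h6
    have h12 : ((α ⟨ψ₁ (Subgroup.inclusion le_sup_left ⟨((α⁻¹ ⟨x, hxT⟩ : T) : Ω), hm⟩), h7⟩ : T) : Ω)
        = φ x := by
      rw [h10]
      exact congrArg Subtype.val (MulAut.apply_inv_self T α ⟨φ x, hφx⟩)
    have h11 : (χ.comp (Subgroup.inclusion hle)) ⟨x, hx⟩ = χ ⟨x, hle hx⟩ := rfl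
    rw [h11]
    refine Eq.trans ?_ (h8.trans h12)
    congr 1
    exact Subtype.ext h9.symm

/-- Let `E` be an invariant subsystem of the saturated `F` and `R` a subgroup normal in `E` and invariant
under `Aut_F(T)`. Then `R` is normal in `F`. -/
theorem isNormal_of_invariant_normal [Fact p.Prime] [Finite S] (hS : IsPGroup p S)
    {F : FusionSystem S} (hF : F.IsSaturated p) {T : Subgroup Ω} {E : FusionSystem T}
    (hE : E.IsInvariantIn F) {R : Subgroup Ω} (hR : E.IsNormal R)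
    (hinv : ∀ α ∈ F.autGroup T, ∀ x : T, (x : Ω) ∈ R → ((α x : T) : Ω) ∈ R) : F.IsNormal R := by
  have hTS : T ≤ S := hE.2.1.1
  have hRT : R ≤ T := hR.1
  have hRS : R ≤ S := hRT.trans hTS
  have hfinR : Finite R := H802.finite_of_le hRS
  refine isNormal_of_extends_aut hS hF hRS (fun P hP φ hφ => ?_)
  obtain ⟨α, hα, φ₀, hφ₀, h⟩ := hE.2.2.2 P (hP.trans hRT) φ hφ
  obtain ⟨β, hβ, hβe⟩ := exists_aut_extension hR hP hφ₀
  -- `α` restricted to `R`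
  have hαR : ∀ x : R, ((α ⟨x, hRT x.2⟩ : T) : Ω) ∈ R := fun x => hinv α hα ⟨x, hRT x.2⟩ x.2
  let f : R →* R :=
    { toFun := fun x => ⟨(α ⟨x, hRT x.2⟩ : T), hαR x⟩
      map_one' := by
        apply Subtype.ext
        show ((α ⟨((1 : R) : Ω), _⟩ : T) : Ω) = 1
        have : (⟨((1 : R) : Ω), hRT (1 : R).2⟩ : T) = 1 := rfl
        rw [this, map_one]
        rfl
      map_mul' := fun x y => by
        apply Subtype.ext
        show ((α ⟨((x * y : R) : Ω), _⟩ : T) : Ω) = _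
        have : (⟨((x * y : R) : Ω), hRT (x * y : R).2⟩ : T) = ⟨x, hRT x.2⟩ * ⟨y, hRT y.2⟩ := rfl
        rw [this, map_mul]
        rfl }
  have hfinj : Function.Injective f := by
    intro x y hxy
    have h1 := congrArg Subtype.val hxy
    have h2 : α ⟨x, hRT x.2⟩ = α ⟨y, hRT y.2⟩ := Subtype.ext h1
    have h3 := congrArg Subtype.val (α.injective h2)
    exact Subtype.ext h3
  have hfbij : Function.Bijective f := Finite.injective_iff_bijective.1 hfinj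
  refine ⟨(MulEquiv.ofBijective f hfbij) * β, fun x => ?_⟩
  have h1 : φ₀ x ∈ T := H802.hom_apply_mem hφ₀ x
  rw [h x h1]
  have h2 : (⟨φ₀ x, h1⟩ : T) = ⟨((β ⟨x, hP x.2⟩ : R) : Ω), hRT (β ⟨x, hP x.2⟩).2⟩ :=
    Subtype.ext (hβe x)
  rw [h2]
  rfl

end Cfsg.Agent.H792
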