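import Cfsg.Agent.H792.CentAdm
import Cfsg.Agent.Transfer.Residual
/-!
# `E ⊆ C_F(centLargest)`
-/
set_option autoImplicit false

namespace Cfsg.Agent.H792
open Cfsg Cfsg.FusionSystem

variable {Ω : Type*} [Group Ω] {S T : Subgroup Ω} {p : ℕ}

/-! ### Group theory -/

theorem gen_top_of_sylow {A : Type*} [Group A] [Finite A] [Fact p.Prime] (R : Sylow p A)
    (M : Subgroup A) (h1 : ∀ a : A, Nat.Coprime (orderOf a) p → a ∈ M) (h2 : (R : Subgroup A) ≤ M) :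
    M = ⊤ := by
  rw [eq_top_iff, ← Transfer.Residual.pResidual_sup_sylow R]
  refine sup_le ?_ h2
  rw [Transfer.Residual.pResidual_def, Subgroup.closure_le]
  exact h1

theorem gen_top_of_normal {A : Type*} [Group A] [Finite A] [Fact p.Prime] (R : Sylow p A)
    (L : Subgroup A) [L.Normal] (hRL : (R : Subgroup A) ≤ L) (M : Subgroup A)
    (h1 : ∀ a ∈ L, Nat.Coprime (orderOf a) p → a ∈ M) (h2 : (R : Subgroup A) ≤ M)
    (h3 : Subgroup.normalizer ((R : Subgroup A) : Set A) ≤ M) : M = ⊤ := by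
  have hL : L ≤ M := by
    have h4 : M.subgroupOf L = ⊤ := by
      refine gen_top_of_sylow (R.subtype hRL) _ (fun a ha => ?_) (fun a ha => ?_)
      · refine h1 a a.2 ?_
        rwa [Subgroup.orderOf_coe]
      · exact h2 ha
    intro a ha
    have h5 : (⟨a, ha⟩ : L) ∈ M.subgroupOf L := by rw [h4]; trivial
    exact h5
  rw [eq_top_iff, ← Sylow.normalizer_sup_eq_top' R hRL]
  exact sup_le h3 hL

/-- A power of `b` which is a `p'`-element and has exponent `≡ 1` modulo a given number prime to `p`. -/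
theorem exists_pow_coprime {B : Type*} [Group B] [Finite B] [hp : Fact p.Prime] (b : B) {r : ℕ}
    (hr : Nat.Coprime r p) : ∃ m : ℕ, Nat.Coprime (orderOf (b ^ m)) p ∧ m ≡ 1 [MOD r] := by
  obtain ⟨k, hk⟩ := Transfer.Residual.exists_pow_prime_pow_coprime p b
  refine ⟨(p ^ Nat.totient r) ^ k, ?_, ?_⟩
  · rcases Nat.eq_zero_or_pos r with h0 | h0
    · exfalso
      rw [h0, Nat.coprime_zero_left] at hr
      exact hp.out.one_lt.ne' hr
    · have ht : 0 < Nat.totient r := Nat.totient_pos.2 h0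
      have h1 : (p ^ Nat.totient r) ^ k = p ^ k * p ^ (k * (Nat.totient r - 1)) := by
        rw [← pow_mul, ← pow_add]
        congr 1
        obtain ⟨t, ht'⟩ : ∃ t, Nat.totient r = t + 1 := ⟨_, (Nat.succ_pred_eq_of_pos ht).symm⟩
        rw [ht']
        simp
        ring
      rw [h1, pow_mul]
      exact Nat.Coprime.coprime_dvd_left (orderOf_pow_dvd _) hk
  · have h1 := Nat.ModEq.pow_totient (Nat.Coprime.symm hr)
    have h2 := h1.pow k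
    rwa [one_pow] at h2

/-! ### Extensions fixing a subgroup -/

/-- `φ` extends to a map of `F` on `P C₀` which is the identity on `C₀`. -/
def ExtId (F : FusionSystem S) (C₀ P : Subgroup Ω) (φ : P →* Ω) : Prop :=
  ∃ ψ ∈ F.Hom (P ⊔ C₀), (∀ (x : Ω) (hx : x ∈ P) (hx' : x ∈ P ⊔ C₀), ψ ⟨x, hx'⟩ = φ ⟨x, hx⟩) ∧
    ∀ (x : Ω) (_ : x ∈ C₀) (hx' : x ∈ P ⊔ C₀), ψ ⟨x, hx'⟩ = x

section ExtId
variable {F : FusionSystem S} {C₀ : Subgroup Ω}

theorem ExtId.res {P R : Subgroup Ω} {φ : P →* Ω} {χ : R →* Ω} (h : ExtId F C₀ P φ) (hRP : R ≤ P)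
    (hχ : ∀ x : R, χ x = φ ⟨x, hRP x.2⟩) : ExtId F C₀ R χ := by
  obtain ⟨ψ, hψ, h1, h2⟩ := h
  have hle : R ⊔ C₀ ≤ P ⊔ C₀ := sup_le_sup_right hRP _
  refine ⟨ψ.comp (Subgroup.inclusion hle), H802.restrict_mem hψ hle, fun x hx hx' => ?_,
    fun x hx hx' => h2 x hx _⟩
  rw [hχ]
  exact h1 x (hRP hx) _

theorem ExtId.comp {P Q : Subgroup Ω} {φ : P →* Ω} {ψ : Q →* Ω} {χ : P →* Ω}
    (hφ : ExtId F C₀ P φ) (hψ : ExtId F C₀ Q ψ)
    (hχ : ∀ x : P, ∃ h : φ x ∈ Q, χ x = ψ ⟨φ x, h⟩) : ExtId F C₀ P χ := by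
  obtain ⟨a, ha, ha1, ha2⟩ := hφ
  obtain ⟨b, hb, hb1, hb2⟩ := hψ
  have hQ : Q ≤ Q ⊔ C₀ := le_sup_left
  have hC : C₀ ≤ Q ⊔ C₀ := le_sup_right
  have ham : ∀ y, a y ∈ Q ⊔ C₀ := by
    intro y
    refine H759.hom_sup_mem (R := Q ⊔ C₀) (fun x hx hx' => ?_) (fun x hx hx' => ?_) y
    · rw [ha1 x hx hx']
      exact hQ (hχ _).1
    · rw [ha2 x hx hx']
      exact hC hx
  obtain ⟨c, hc, hce⟩ := H802.exists_comp ha hb ham
  refine ⟨c, hc, fun x hx hx' => ?_, fun x hx hx' => ?_⟩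
  · rw [hce]
    obtain ⟨h3, h4⟩ := hχ ⟨x, hx⟩
    rw [h4]
    have h5 : (⟨a ⟨x, hx'⟩, ham _⟩ : ↥(Q ⊔ C₀)) = ⟨φ ⟨x, hx⟩, hQ h3⟩ := Subtype.ext (ha1 x hx hx')
    rw [h5]
    exact hb1 _ h3 _
  · rw [hce]
    have h5 : (⟨a ⟨x, hx'⟩, ham _⟩ : ↥(Q ⊔ C₀)) = ⟨x, hC hx⟩ := Subtype.ext (ha2 x hx hx')
    rw [h5]
    exact hb2 x hx _

theorem ExtId.inv {P R : Subgroup Ω} {φ : P →* Ω} {χ : R →* Ω} (hφ : ExtId F C₀ P φ)
    (hχ : ∀ y : R, ∃ x : P, φ x = y ∧ χ y = x) : ExtId F C₀ R χ := by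
  obtain ⟨a, ha, ha1, ha2⟩ := hφ
  have hP : P ≤ P ⊔ C₀ := le_sup_left
  have hC : C₀ ≤ P ⊔ C₀ := le_sup_right
  obtain ⟨b, hb, hbr, hb1, hb2⟩ := H802.exists_inv ha rfl
  have hle : R ⊔ C₀ ≤ a.range := by
    refine sup_le ?_ ?_
    · intro y hy
      obtain ⟨x, hx, -⟩ := hχ ⟨y, hy⟩
      exact ⟨⟨x, hP x.2⟩, (ha1 x x.2 _).trans hx⟩
    · intro y hy
      exact ⟨⟨y, hC hy⟩, ha2 y hy _⟩
  refine ⟨b.comp (Subgroup.inclusion hle), H802.restrict_mem hb hle, fun y hy hy' => ?_,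
    fun y hy hy' => ?_⟩
  · obtain ⟨x, hx, hx2⟩ := hχ ⟨y, hy⟩
    have h3 : a ⟨x, hP x.2⟩ = y := (ha1 x x.2 _).trans hx
    have h4 := hb1 ⟨x, hP x.2⟩ (by rw [h3]; exact hle hy')
    have h5 : (⟨a ⟨x, hP x.2⟩, by rw [h3]; exact hle hy'⟩ : a.range) = ⟨y, hle hy'⟩ :=
      Subtype.ext h3
    rw [h5] at h4
    rw [hx2]
    exact h4
  · have h3 : a ⟨y, hC hy⟩ = y := ha2 y hy _
    have h4 := hb1 ⟨y, hC hy⟩ (by rw [h3]; exact hle hy')
    have h5 : (⟨a ⟨y, hC hy⟩, by rw [h3]; exact hle hy'⟩ : a.range) = ⟨y, hle hy'⟩ :=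
      Subtype.ext h3
    rw [h5] at h4
    exact h4

end ExtId

/-! ### Fully normalized subgroups of `F` are fully normalized in `E` -/

theorem isFullyNormalized_of_invariant [Fact p.Prime] [Finite S] (hS : IsPGroup p S)
    {F : FusionSystem S} (hF : F.IsSaturated p) {E : FusionSystem T} (hE : E.IsSubsystemOf F)
    (hT : F.StronglyClosed T) {Q : Subgroup Ω} (hQT : Q ≤ T) (hQ : F.IsFullyNormalized Q) :
    E.IsFullyNormalized Q := by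
  refine ⟨hQT, ?_⟩
  rintro Q' ⟨φ, hφ, rfl⟩
  obtain ⟨ρ, hρ, hρr, -, -⟩ := H802.exists_inv (hE Q hφ) rfl
  obtain ⟨β, hβ, ψ, hψ, hψe, hψN⟩ := H802.exists_extension_normalizer hS hF hρ hρr hQ
  have hle : normalizerIn T φ.range ≤ normalizerIn S φ.range := inf_le_inf_right _ hT.1
  have hfin : Finite (normalizerIn T Q) :=
    H802.finite_of_le (S := S) (inf_le_left.trans hT.1)
  refine H802.card_le_of_maps (F.injective_of_mem hψ) hle (fun x hx => ⟨?_, (hψN _).2⟩)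
  exact H759.StronglyClosed.apply_mem hT hψ (x := ⟨x, hle hx⟩) hx.1

/-! ### Lifts of `Aut_T(P)` -/

theorem triv_of_gen {P C : Subgroup Ω} (hC : C ≤ Subgroup.normalizer (P : Set Ω))
    {β : ↥(P ⊔ C) →* Ω} (hP : ∀ (x : Ω) (_ : x ∈ P) (hx' : x ∈ P ⊔ C), β ⟨x, hx'⟩ ∈ P)
    (hCt : ∀ (x : Ω) (_ : x ∈ C) (hx' : x ∈ P ⊔ C), x⁻¹ * β ⟨x, hx'⟩ ∈ P) (y : ↥(P ⊔ C)) :
    (y : Ω)⁻¹ * β y ∈ P := by
  have hPm : P ≤ P ⊔ C := le_sup_left
  have hCm : C ≤ P ⊔ C := le_sup_right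
  obtain ⟨c, hc, x, hx, hcx⟩ := (H759.mem_sup_of_normalizes hC).1
    (show (y : Ω) ∈ C ⊔ P by rw [sup_comm]; exact y.2)
  have h1 : y = ⟨c, hCm hc⟩ * ⟨x, hPm hx⟩ := Subtype.ext hcx.symm
  rw [h1, map_mul]
  show (c * x)⁻¹ * _ ∈ P
  have h2 : (c * x)⁻¹ * (β ⟨c, hCm hc⟩ * β ⟨x, hPm hx⟩) =
      x⁻¹ * (c⁻¹ * β ⟨c, hCm hc⟩) * β ⟨x, hPm hx⟩ := by group
  rw [h2]
  exact mul_mem (mul_mem (inv_mem hx) (hCt c hc _)) (hP x hx _)

theorem lifts_of_mem_autInducedBy {F : FusionSystem S} (hT : F.StronglyClosed T)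
    {E : FusionSystem T} {P : Subgroup Ω} (hP : E.IsCentric P) {α : MulAut P}
    (hα : α ∈ autInducedBy T P) : Lifts F P α := by
  have hPT : P ≤ T := hP.1
  have hPS : P ≤ S := hPT.trans hT.1
  obtain ⟨t, ht, hαt⟩ := (H802.mem_autInducedBy_iff T P α).1 hα
  have htN := H802.mem_normalizer_of_aut hαt
  have hCc : centralizerIn T P ≤ P := hP.2 P (H802.isConj_refl E hPT)
  refine ⟨conjHom _ t, F.conj_mem (sup_le hPS inf_le_left) (hT.1 ht), fun x hx => (hαt x).symm,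
    triv_of_gen (inf_le_right.trans (Subgroup.centralizer_le_normalizer _))
      (fun x hx hx' => (Subgroup.mem_normalizer_iff.1 htN x).1 hx) (fun x hx hx' => ?_)⟩
  show x⁻¹ * (t * x * t⁻¹) ∈ P
  apply hCc
  have hxC : x ∈ Subgroup.centralizer (P : Set Ω) := hx.2
  refine ⟨show _ ∈ T from ?_, show _ ∈ Subgroup.centralizer (P : Set Ω) from ?_⟩
  · have h1 := H759.StronglyClosed.conj_mem' hT hx.1 ht
    have h2 : x⁻¹ * (t * x * t⁻¹) = (x⁻¹ * t * x) * t⁻¹ := by group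
    rw [h2]
    exact mul_mem h1 (T.inv_mem ht)
  · refine mul_mem (Subgroup.inv_mem _ hxC) ?_
    refine Subgroup.mem_centralizer_iff.2 fun y hy => ?_
    have h3 : t⁻¹ * y * t ∈ P := by
      have := (Subgroup.mem_normalizer_iff.1 (Subgroup.inv_mem _ htN) y).1 hy
      simpa using this
    have h4 := Subgroup.mem_centralizer_iff.1 hxC _ h3
    calc y * (t * x * t⁻¹) = t * ((t⁻¹ * y * t) * x) * t⁻¹ := by group
      _ = t * (x * (t⁻¹ * y * t)) * t⁻¹ := by rw [h4]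
      _ = t * x * t⁻¹ * y := by group

end Cfsg.Agent.H792
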