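import Cfsg.Agent.H792.WeakNormal
/-!
# Invariant subsystems: invariance under all maps of `F`
-/
set_option autoImplicit false

namespace Cfsg.Agent.H792
open Cfsg Cfsg.FusionSystem

variable {Ω : Type*} [Group Ω] {S : Subgroup Ω} {p : ℕ}

/-- Conjugates of elements of `Aut_E(P)` by maps of `F` lie in `Aut_E`. -/
theorem congr_mem_of_invariant {T : Subgroup Ω} {E : FusionSystem T} {F : FusionSystem S}
    (hE : E.IsInvariantIn F) {P P' : Subgroup Ω} (hPT : P ≤ T) {μ : P →* Ω} (hμ : μ ∈ F.Hom P)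
    (hr : μ.range = P') {α : MulAut P} (hα : α ∈ E.autGroup P) :
    MulAut.congr (H802.isoOf μ (F.injective_of_mem hμ) hr) α ∈ E.autGroup P' := by
  obtain ⟨α₀, hα₀, φ₀, hφ₀, h0⟩ := hE.2.2.2 P hPT μ hμ
  have hφT : ∀ x : P, φ₀ x ∈ T := H802.hom_apply_mem hφ₀
  have hP'T : P' ≤ T := by
    rw [← hr]
    rintro _ ⟨x, rfl⟩
    rw [h0 x (hφT x)]
    exact (α₀ _).2
  have h1 := H802.congr_mem_autGroup hφ₀ rfl hα
  have hP₁T : φ₀.range ≤ T := H802.range_le_of_mem hφ₀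
  have h2 := (H802.mem_autGroup_iff E hP₁T _).1 h1
  rw [H802.mem_autGroup_iff E hP'T]
  refine invariant_transport hE hα₀ h2 (fun y => ?_)
  set e := H802.isoOf μ (F.injective_of_mem hμ) hr with he
  set e₀ := H802.isoOf φ₀ (E.injective_of_mem hφ₀) rfl with he₀
  have hy : (y : Ω) = μ (e.symm y) := (H802.isoOf_symm_apply μ (F.injective_of_mem hμ) hr y).symm
  refine ⟨e₀ (e.symm y), hφT _, ?_, ?_, ?_⟩
  · exact hP₁T (MulAut.congr e₀ α (e₀ (e.symm y))).2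
  · rw [hy]
    exact h0 (e.symm y) (hφT _)
  · have h3 : MulAut.congr e₀ α (e₀ (e.symm y)) = e₀ (α (e.symm y)) := by
      show e₀ (α (e₀.symm (e₀ (e.symm y)))) = _
      rw [MulEquiv.symm_apply_apply]
    have h4 : ((MulAut.congr e₀ α (e₀ (e.symm y)) : φ₀.range) : Ω) = φ₀ (α (e.symm y)) := by
      rw [h3]
      rfl
    have h5 : ((MulAut.congr e α y : P') : Ω) = μ (α (e.symm y)) := rfl
    show ((MulAut.congr e α y : P') : Ω) = _
    rw [h5, h0 _ (hφT _)]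
    congr 2
    exact Subtype.ext h4.symm

/-- Pointwise form: for `μ : P → P'` in `F` and `α ∈ Aut_E(P)` there is `α' ∈ Aut_E(P')` with
`α' μ = μ α`. -/
theorem exists_congr_of_invariant {T : Subgroup Ω} {E : FusionSystem T} {F : FusionSystem S}
    (hE : E.IsInvariantIn F) {P P' : Subgroup Ω} (hPT : P ≤ T) {μ : P →* Ω} (hμ : μ ∈ F.Hom P)
    (hr : μ.range = P') {α : MulAut P} (hα : α ∈ E.autGroup P) :
    ∃ α' ∈ E.autGroup P', orderOf α' = orderOf α ∧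
      ∀ (x : P) (hx : μ x ∈ P'), ((α' ⟨μ x, hx⟩ : P') : Ω) = μ (α x) := by
  refine ⟨_, congr_mem_of_invariant hE hPT hμ hr hα, ?_, fun x hx => ?_⟩
  · exact orderOf_injective (MulAut.congr (H802.isoOf μ (F.injective_of_mem hμ) hr)).toMonoidHom
      (MulAut.congr (H802.isoOf μ (F.injective_of_mem hμ) hr)).injective α
  · set e := H802.isoOf μ (F.injective_of_mem hμ) hr with he
    have h1 : (⟨μ x, hx⟩ : P') = e x := Subtype.ext rfl
    rw [h1]
    show ((e (α (e.symm (e x))) : P') : Ω) = _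
    rw [MulEquiv.symm_apply_apply]
    rfl

/-- Images of `E`-centric subgroups under maps of `F` are `E`-centric. -/
theorem isCentric_map_of_invariant {T : Subgroup Ω} {E : FusionSystem T} {F : FusionSystem S}
    (hE : E.IsInvariantIn F) {P P' : Subgroup Ω} (hP : E.IsCentric P) {μ : P →* Ω}
    (hμ : μ ∈ F.Hom P) (hr : μ.range = P') : E.IsCentric P' := by
  have hPT : P ≤ T := hP.1
  have hTS : T ≤ S := hE.2.1.1
  -- centralizers of images
  have key : ∀ (ν : P →* Ω), ν ∈ F.Hom P → centralizerIn T ν.range ≤ ν.range := by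
    intro ν hν
    obtain ⟨α₀, hα₀, φ₀, hφ₀, h0⟩ := hE.2.2.2 P hPT ν hν
    have hφT : ∀ x : P, φ₀ x ∈ T := H802.hom_apply_mem hφ₀
    rintro y ⟨hyT, hyc⟩
    have hc := hP.2 _ ⟨φ₀, hφ₀, rfl⟩
    have h1 : ((α₀⁻¹ ⟨y, hyT⟩ : T) : Ω) ∈ centralizerIn T φ₀.range := by
      refine ⟨(α₀⁻¹ ⟨y, hyT⟩).2, Subgroup.mem_centralizer_iff.2 ?_⟩
      rintro _ ⟨x, rfl⟩
      have h2 := Subgroup.mem_centralizer_iff.1 hyc (ν x) ⟨x, rfl⟩
      rw [h0 x (hφT x)] at h2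
      have h3 : (α₀ ⟨φ₀ x, hφT x⟩ : T) * ⟨y, hyT⟩ = ⟨y, hyT⟩ * α₀ ⟨φ₀ x, hφT x⟩ := Subtype.ext h2
      have h4 := congrArg (fun t : T => ((α₀⁻¹ t : T) : Ω)) h3
      simp only [map_mul, MulAut.inv_apply_self] at h4
      exact h4
    obtain ⟨x, hx⟩ := hc h1
    refine ⟨x, ?_⟩
    rw [h0 x (hφT x)]
    have h2 : (⟨φ₀ x, hφT x⟩ : T) = α₀⁻¹ ⟨y, hyT⟩ := Subtype.ext hx
    rw [h2, MulAut.apply_inv_self]
  refine ⟨?_, ?_⟩
  · rw [← hr]
    rintro _ ⟨x, rfl⟩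
    exact hE.2.1.2 P hPT μ hμ x
  · rintro Q ⟨χ, hχ, rfl⟩
    have hχF : χ ∈ F.Hom P' := hE.1 P' hχ
    have hμm : ∀ x : P, μ x ∈ P' := fun x => hr.le ⟨x, rfl⟩
    obtain ⟨ν, hν, hνe⟩ := H802.exists_comp hμ hχF hμm
    have h1 : ν.range = χ.range := by
      ext y
      constructor
      · rintro ⟨x, rfl⟩
        exact ⟨_, (hνe x).symm⟩
      · rintro ⟨z, rfl⟩
        obtain ⟨x, hx⟩ := hr.ge z.2
        refine ⟨x, ?_⟩
        rw [hνe x]
        congr 1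
        exact Subtype.ext hx
    rw [← h1]
    exact key ν hν

end Cfsg.Agent.H792
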