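import Mathlib
/-!
# The norm map: fixed points of a group on an abelian group of coprime-to-index order split off
-/
set_option autoImplicit false

namespace Cfsg.Agent.H792

/-- `A` acts on the finite abelian group `V`, `P ≤ A` has index prime to `|V|`. Then the fixed points of `A`
are a direct factor of the fixed points of `P`. -/
theorem exists_compl_fixed {V A : Type*} [CommGroup V] [Finite V] [Group A] [Finite A]
    (ρ : A →* MulAut V) (P : Subgroup A) (hcop : Nat.Coprime (Nat.card V) P.index) :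
    ∃ K : Subgroup V, (∀ x ∈ K, ∀ a ∈ P, ρ a x = x) ∧ (∀ x ∈ K, (∀ a, ρ a x = x) → x = 1) ∧
      ∀ x : V, (∀ a ∈ P, ρ a x = x) → ∃ y k : V, (∀ a, ρ a y = y) ∧ k ∈ K ∧ x = y * k := by
  classical
  have : Fintype (A ⧸ P) := Fintype.ofFinite _
  -- the norm map
  let N : V →* V :=
    { toFun := fun x => ∏ q : A ⧸ P, ρ q.out x
      map_one' := by simp
      map_mul' := fun x y => by simp [Finset.prod_mul_distrib] }
  have hN : ∀ x, N x = ∏ q : A ⧸ P, ρ q.out x := fun _ => rfl
  have hrep : ∀ x : V, (∀ a ∈ P, ρ a x = x) → ∀ (q : A ⧸ P) (a : A), (a : A ⧸ P) = q →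
      ρ q.out x = ρ a x := by
    intro x hx q a haq
    have h1 : (q.out : A ⧸ P) = (a : A ⧸ P) := by rw [QuotientGroup.out_eq', haq]
    have h2 : q.out⁻¹ * a ∈ P := QuotientGroup.eq.1 h1
    have h3 := hx _ h2
    have h4 : ρ q.out (ρ (q.out⁻¹ * a) x) = ρ a x := by
      rw [← MulAut.mul_apply, ← map_mul, mul_inv_cancel_left]
    rw [h3] at h4
    exact h4
  have hNfix : ∀ x : V, (∀ a ∈ P, ρ a x = x) → ∀ b : A, ρ b (N x) = N x := by
    intro x hx b
    rw [hN, map_prod]
    have h1 : ∀ q : A ⧸ P, ρ b (ρ q.out x) = ρ (b • q).out x := by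
      intro q
      rw [hrep x hx (b • q) (b * q.out) (by
        conv_rhs => rw [← QuotientGroup.out_eq' q]
        rfl)]
      rw [map_mul, MulAut.mul_apply]
    rw [Finset.prod_congr rfl (fun q _ => h1 q)]
    exact Equiv.prod_comp (MulAction.toPerm b) (fun q : A ⧸ P => ρ q.out x)
  have hNpow : ∀ x : V, (∀ a, ρ a x = x) → N x = x ^ P.index := by
    intro x hx
    rw [hN, Finset.prod_congr rfl (fun q _ => hx q.out), Finset.prod_const, Finset.card_univ,
      Subgroup.index, Nat.card_eq_fintype_card]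
  -- the inverse of the index modulo the order
  obtain ⟨m, hm⟩ : ∃ m : ℕ, ∀ x : V, (x ^ P.index) ^ m = x := by
    have h1 : ∃ m : ℕ, P.index * m ≡ 1 [MOD Nat.card V] := by
      rcases Nat.lt_or_ge 1 (Nat.card V) with h | h
      · obtain ⟨m, -, hm⟩ := Nat.exists_mul_mod_eq_one_of_coprime hcop.symm h
        exact ⟨m, by rw [Nat.ModEq, hm, Nat.mod_eq_of_lt h]⟩
      · have h0 : Nat.card V = 1 := le_antisymm h Nat.card_pos
        exact ⟨1, by rw [h0]; exact Nat.modEq_one⟩
    obtain ⟨m, hm⟩ := h1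
    refine ⟨m, fun x => ?_⟩
    rw [← pow_mul]
    have h2 : P.index * m ≡ 1 [MOD orderOf x] := hm.of_dvd (orderOf_dvd_natCard x)
    have h3 := (pow_eq_pow_iff_modEq (x := x)).2 h2
    rw [h3, pow_one]
  let K : Subgroup V :=
    { carrier := {x | (∀ a ∈ P, ρ a x = x) ∧ N x = 1}
      one_mem' := ⟨fun a _ => map_one _, map_one _⟩
      mul_mem' := by
        rintro x y ⟨hx, hx'⟩ ⟨hy, hy'⟩
        exact ⟨fun a ha => by rw [map_mul, hx a ha, hy a ha], by rw [map_mul, hx', hy', one_mul]⟩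
      inv_mem' := by
        rintro x ⟨hx, hx'⟩
        exact ⟨fun a ha => by rw [map_inv, hx a ha], by rw [map_inv, hx', inv_one]⟩ }
  refine ⟨K, fun x hx => hx.1, fun x hx hxA => ?_, fun x hx => ?_⟩
  · have h1 := hNpow x hxA
    rw [hx.2] at h1
    have h2 := hm x
    rw [← h1, one_pow] at h2
    exact h2.symm
  · refine ⟨(N x) ^ m, ((N x) ^ m)⁻¹ * x, fun a => ?_, ⟨fun a ha => ?_, ?_⟩, by group⟩
    · rw [map_pow, hNfix x hx]
    · rw [map_mul, map_inv, map_pow, hNfix x hx, hx a ha]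
    · rw [map_mul, map_inv, map_pow, hNpow (N x) (hNfix x hx), hm, inv_mul_cancel]

/-- The same for a group with a commutativity hypothesis. -/
theorem exists_compl_fixed' {V A : Type*} [inst : Group V] (hV : ∀ a b : V, a * b = b * a) [Finite V]
    [Group A] [Finite A]
    (ρ : A →* MulAut V) (P : Subgroup A) (hcop : Nat.Coprime (Nat.card V) P.index) :
    ∃ K : Subgroup V, (∀ x ∈ K, ∀ a ∈ P, ρ a x = x) ∧ (∀ x ∈ K, (∀ a, ρ a x = x) → x = 1) ∧
      ∀ x : V, (∀ a ∈ P, ρ a x = x) → ∃ y k : V, (∀ a, ρ a y = y) ∧ k ∈ K ∧ x = y * k := by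
  letI : CommGroup V := { inst with mul_comm := hV }
  exact exists_compl_fixed ρ P hcop

end Cfsg.Agent.H792
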