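import Cfsg.Agent.H792.NormalCrit
import Cfsg.Agent.H792.NormMap
/-!
# The centre of a saturated fusion system splits off from `Z(S)` when `Z(S) ≤ Q` for some normal `Q`
-/
set_option autoImplicit false

namespace Cfsg.Agent.H792
open Cfsg Cfsg.FusionSystem

variable {Ω : Type*} [Group Ω] {S : Subgroup Ω} {p : ℕ}

/-- The centre lies in `S`. -/
theorem center_le (F : FusionSystem S) : F.center ≤ S := sSup_le fun _ hQ => hQ.1

theorem center_le_center (F : FusionSystem S) : F.center ≤ S ⊓ Subgroup.centralizer (S : Set Ω) :=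
  le_inf (center_le F) F.center_le_centralizer

/-- A map of `F` with source `P ⊇ F.center` fixes the centre elementwise. -/
theorem apply_center {F : FusionSystem S} {P : Subgroup Ω} {φ : P →* Ω} (hφ : φ ∈ F.Hom P)
    {x : Ω} (hx : x ∈ F.center) (hxP : x ∈ P) (hP : F.center ≤ P) : φ ⟨x, hxP⟩ = x := by
  let W : Subgroup Ω :=
    { carrier := {x | ∀ h : x ∈ P, x ∈ S ∧ φ ⟨x, h⟩ = x} ∩ P
      one_mem' := ⟨fun h => ⟨S.one_mem, map_one φ⟩, P.one_mem⟩
      mul_mem' := by
        rintro a b ⟨ha, haP⟩ ⟨hb, hbP⟩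
        refine ⟨fun h => ⟨S.mul_mem (ha haP).1 (hb hbP).1, ?_⟩, P.mul_mem haP hbP⟩
        have : (⟨a * b, h⟩ : P) = ⟨a, haP⟩ * ⟨b, hbP⟩ := rfl
        rw [this, map_mul, (ha haP).2, (hb hbP).2]
      inv_mem' := by
        rintro a ⟨ha, haP⟩
        refine ⟨fun h => ⟨S.inv_mem (ha haP).1, ?_⟩, P.inv_mem haP⟩
        have : (⟨a⁻¹, h⟩ : P) = ⟨a, haP⟩⁻¹ := rfl
        rw [this, map_inv, (ha haP).2] }
  have hle : F.center ≤ W := by
    refine sSup_le fun C hC => ?_
    intro c hc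
    have hCP : C ≤ P := le_trans (le_sSup hC) hP
    refine ⟨fun h => ⟨hC.1 hc, ?_⟩, hCP hc⟩
    obtain ⟨ψ, hψ, h1, h2⟩ := hC.2 P φ hφ
    have h3 := h1 ⟨c, h⟩
    have h4 := h2 ⟨c, hc⟩
    rw [← h3]
    exact h4
  exact ((hle hx).1 hxP).2

/-- Description of the centre through a normal subgroup containing `Z(S)`. -/
theorem mem_center_iff_of_isNormal {F : FusionSystem S} {Q : Subgroup Ω} (hQ : F.IsNormal Q)
    (hZ : S ⊓ Subgroup.centralizer (S : Set Ω) ≤ Q) (x : Ω) :
    x ∈ F.center ↔ ∃ hx : x ∈ Q, ∀ α ∈ F.autGroup Q, ((α ⟨x, hx⟩ : Q) : Ω) = x := by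
  constructor
  · intro hx
    have hcQ : F.center ≤ Q := (center_le_center F).trans hZ
    refine ⟨hcQ hx, fun α hα => ?_⟩
    exact apply_center ((H802.mem_autGroup_iff F hQ.1 α).1 hα) hx (hcQ hx) hcQ
  · rintro ⟨hxQ, hx⟩
    let W : Subgroup Ω :=
      { carrier := {y | ∃ hy : y ∈ Q, ∀ α ∈ F.autGroup Q, ((α ⟨y, hy⟩ : Q) : Ω) = y}
        one_mem' := ⟨Q.one_mem, fun α _ => by
          have : (⟨1, Q.one_mem⟩ : Q) = 1 := rfl
          rw [this, map_one]
          rfl⟩
        mul_mem' := by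
          rintro a b ⟨ha, ha'⟩ ⟨hb, hb'⟩
          refine ⟨Q.mul_mem ha hb, fun α hα => ?_⟩
          have : (⟨a * b, Q.mul_mem ha hb⟩ : Q) = ⟨a, ha⟩ * ⟨b, hb⟩ := rfl
          rw [this, map_mul]
          show ((α ⟨a, ha⟩ : Q) : Ω) * (α ⟨b, hb⟩ : Q) = a * b
          rw [ha' α hα, hb' α hα]
        inv_mem' := by
          rintro a ⟨ha, ha'⟩
          refine ⟨Q.inv_mem ha, fun α hα => ?_⟩
          have : (⟨a⁻¹, Q.inv_mem ha⟩ : Q) = ⟨a, ha⟩⁻¹ := rfl
          rw [this, map_inv]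
          show ((α ⟨a, ha⟩ : Q) : Ω)⁻¹ = a⁻¹
          rw [ha' α hα] }
    have hW : F.IsCentral W := by
      refine ⟨fun y hy => hQ.1 hy.1, fun P φ hφ => ?_⟩
      obtain ⟨ψ, hψ, h1, h2⟩ := hQ.2 P φ hφ
      have hWQ : W ≤ Q := fun y hy => hy.1
      have hle : P ⊔ W ≤ P ⊔ Q := sup_le_sup_left hWQ P
      refine ⟨ψ.comp (Subgroup.inclusion hle), H802.restrict_mem hψ hle, fun y => ?_, fun y => ?_⟩
      · exact h1 y
      · have hr : (ψ.comp (Subgroup.inclusion (le_sup_right : Q ≤ P ⊔ Q))).range = Q := by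
          refine Eq.trans ?_ h2
          ext y
          constructor
          · rintro ⟨x, rfl⟩
            exact ⟨Subgroup.inclusion le_sup_right x, x.2, rfl⟩
          · rintro ⟨x, hx, rfl⟩
            exact ⟨⟨x, hx⟩, rfl⟩
        obtain ⟨α, hα, hαe⟩ := H802.exists_aut (H802.restrict_mem hψ _) hr
        obtain ⟨hy, hy'⟩ := y.2
        have h3 := hy' α hα
        rw [hαe] at h3
        exact h3
    exact (le_sSup (a := W) hW) ⟨hxQ, hx⟩

/-- A normal subgroup is fully automized in a saturated system. -/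
theorem isFullyAutomized_of_isNormal {F : FusionSystem S} (hF : F.IsSaturated p) {Q : Subgroup Ω}
    (hQ : F.IsNormal Q) [Finite S] : F.IsFullyAutomized p Q ∧ F.IsReceptive Q := by
  obtain ⟨Q', hQQ', h1, h2⟩ := hF Q hQ.1
  have : Q' = Q := by
    obtain ⟨φ, hφ, rfl⟩ := hQQ'
    have hfin : Finite Q := H802.finite_of_le hQ.1
    exact H802.range_eq_of_mapsTo hφ
      (fun x => (H759.IsNormal.stronglyClosed hQ).2 Q le_rfl φ hφ x)
  rw [← this]
  exact ⟨h1, h2⟩

/-- If `Q` is normal in the saturated system `F` and contains `Z(S)`, then `Z(F)` is a direct factor of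
`Z(S)`. -/
theorem center_splits_of_isNormal [Fact p.Prime] [Finite S] (hS : IsPGroup p S) {F : FusionSystem S}
    (hF : F.IsSaturated p) {Q : Subgroup Ω} (hQ : F.IsNormal Q)
    (hZ : S ⊓ Subgroup.centralizer (S : Set Ω) ≤ Q) :
    ∃ K : Subgroup Ω, K ≤ S ⊓ Subgroup.centralizer (S : Set Ω) ∧ F.center ⊓ K = ⊥ ∧
      F.center ⊔ K = S ⊓ Subgroup.centralizer (S : Set Ω) := by
  have hQS : Q ≤ S := hQ.1
  have hfinQ : Finite Q := H802.finite_of_le hQS
  have hQp : IsPGroup p Q := hS.to_le hQS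
  have hfinA : Finite (MulAut Q) := inferInstance
  -- the action on the centre of `Q`
  let V := Subgroup.center Q
  have hact : ∀ (a : MulAut Q) (v : Q), v ∈ Subgroup.center Q → a v ∈ Subgroup.center Q := by
    intro a v hv
    have := (Subgroup.characteristic_iff_le_comap.1
      (inferInstance : (Subgroup.center Q).Characteristic)) a
    exact this hv
  let ρ : F.autGroup Q →* MulAut (Subgroup.center Q) :=
    { toFun := fun a =>
        { toFun := fun v => ⟨(a : MulAut Q) v, hact a v v.2⟩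
          invFun := fun v => ⟨(a : MulAut Q)⁻¹ v, hact _ v v.2⟩
          left_inv := fun v => Subtype.ext (MulAut.inv_apply_self _ _ _)
          right_inv := fun v => Subtype.ext (MulAut.apply_inv_self _ _ _)
          map_mul' := fun v w => Subtype.ext (map_mul (a : MulAut Q) (v : Q) w) }
      map_one' := rfl
      map_mul' := fun a b => rfl }
  have hρ : ∀ (a : F.autGroup Q) (v : Subgroup.center Q), ((ρ a v : Subgroup.center Q) : Q) =
      (a : MulAut Q) v := fun _ _ => rfl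
  obtain ⟨-, R, hR⟩ := (isFullyAutomized_of_isNormal hF hQ).1
  have hcop : Nat.Coprime (Nat.card (Subgroup.center Q)) (R : Subgroup (F.autGroup Q)).index := by
    have h1 : IsPGroup p (Subgroup.center Q) := hQp.to_subgroup _
    obtain ⟨n, hn⟩ := IsPGroup.iff_card.1 h1
    rw [hn]
    exact Nat.Coprime.pow_left _ ((Nat.Prime.coprime_iff_not_dvd Fact.out).2 R.not_dvd_index)
  obtain ⟨K, hK1, hK2, hK3⟩ := exists_compl_fixed'
    (fun a b => Subtype.ext ((Subgroup.mem_center_iff.1 b.2) a))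
    ρ (R : Subgroup (F.autGroup Q)) hcop
  -- fixed points of `R`
  have hfixR : ∀ v : Subgroup.center Q, (∀ a ∈ (R : Subgroup (F.autGroup Q)), ρ a v = v) ↔
      (((v : Q) : Ω) ∈ S ⊓ Subgroup.centralizer (S : Set Ω)) := by
    intro v
    constructor
    · intro h
      refine ⟨hQS (v : Q).2, Subgroup.mem_centralizer_iff.2 ?_⟩
      intro s hs
      have hsN : s ∈ Subgroup.normalizer (Q : Set Ω) :=
        (H759.StronglyClosed.le_normalizer (H759.IsNormal.stronglyClosed hQ)) hs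
      obtain ⟨α, hα⟩ := H802.exists_conjAut hsN
      have hαS : α ∈ autInducedBy S Q := (H802.mem_autInducedBy_iff S Q α).2 ⟨s, hs, hα⟩
      have hαF : α ∈ F.autGroup Q := H802.autInducedBy_le_autGroup F hQS hαS
      have h1 := h ⟨α, hαF⟩ (by rw [hR]; exact hαS)
      have h2 : (α (v : Q) : Q) = (v : Q) := congrArg Subtype.val h1
      have h3 := hα (v : Q)
      rw [h2] at h3
      calc s * ((v : Q) : Ω) = s * ((v : Q) : Ω) * s⁻¹ * s := by group
        _ = _ := by rw [← h3]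
    · rintro ⟨-, h⟩ ⟨a, haF⟩ ha
      rw [hR] at ha
      obtain ⟨s, hs, hα⟩ := (H802.mem_autInducedBy_iff S Q a).1 ha
      apply Subtype.ext
      apply Subtype.ext
      have h1 := Subgroup.mem_centralizer_iff.1 h s hs
      show ((a (v : Q) : Q) : Ω) = _
      rw [hα, h1, mul_inv_cancel_right]
  have hfixA : ∀ v : Subgroup.center Q, (∀ a, ρ a v = v) ↔ ((v : Q) : Ω) ∈ F.center := by
    intro v
    rw [mem_center_iff_of_isNormal hQ hZ]
    constructor
    · intro h
      exact ⟨(v : Q).2, fun α hα => congrArg (fun w : Subgroup.center Q => ((w : Q) : Ω)) (h ⟨α, hα⟩)⟩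
    · rintro ⟨h, h'⟩ ⟨a, ha⟩
      apply Subtype.ext
      apply Subtype.ext
      exact h' a ha
  -- elements of `Z(S)` as elements of `Z(Q)`
  have hlift : ∀ x ∈ S ⊓ Subgroup.centralizer (S : Set Ω), ∃ v : Subgroup.center Q,
      ((v : Q) : Ω) = x := by
    intro x hx
    refine ⟨⟨⟨x, hZ hx⟩, ?_⟩, rfl⟩
    rw [Subgroup.mem_center_iff]
    intro g
    apply Subtype.ext
    exact Subgroup.mem_centralizer_iff.1 hx.2 g (hQS g.2)
  refine ⟨(K.map (Subgroup.center Q).subtype).map Q.subtype, ?_, ?_, ?_⟩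
  · rintro _ ⟨_, ⟨v, hv, rfl⟩, rfl⟩
    exact (hfixR v).1 (hK1 v hv)
  · rw [eq_bot_iff]
    rintro _ ⟨hx, ⟨_, ⟨v, hv, rfl⟩, rfl⟩⟩
    have h1 := hK2 v hv ((hfixA v).2 hx)
    rw [h1]
    exact Subgroup.mem_bot.2 rfl
  · apply le_antisymm
    · refine sup_le (center_le_center F) ?_
      rintro _ ⟨_, ⟨v, hv, rfl⟩, rfl⟩
      exact (hfixR v).1 (hK1 v hv)
    · intro x hx
      obtain ⟨v, rfl⟩ := hlift x hx
      obtain ⟨y, k, hy, hk, hyk⟩ := hK3 v ((hfixR v).2 hx)
      rw [hyk]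
      exact Subgroup.mul_mem_sup ((hfixA y).1 hy) ⟨_, ⟨k, hk, rfl⟩, rfl⟩

end Cfsg.Agent.H792
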