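import Cfsg.Agent.H792.CentKey
/-!
# Admissible automorphisms and the largest subgroup of `C_S(T)` centralized by `E`

`E` is an invariant subsystem over `T` of the saturated system `F` over `S`, `K = C_S(T)`.
`Adm F E p P β`: `P ≤ T` is `E`-centric, `β ∈ Aut_F(P K)` has order prime to `p`, acts trivially modulo `P` and
restricts to a liftable element of `Aut_E(P)`. `centLargest F E p` is the subgroup of the elements of `K` fixed by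
all admissible automorphisms.
-/
set_option autoImplicit false

namespace Cfsg.Agent.H792
open Cfsg Cfsg.FusionSystem

variable {Ω : Type*} [Group Ω] {S T : Subgroup Ω} {p : ℕ}

/-- Admissible automorphisms. -/
structure Adm (F : FusionSystem S) (E : FusionSystem T) (p : ℕ) (P : Subgroup Ω)
    (β : MulAut ↥(P ⊔ centralizerIn S T)) : Prop where
  centric : E.IsCentric P
  mem : β ∈ F.autGroup (P ⊔ centralizerIn S T)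
  triv : ∀ y : ↥(P ⊔ centralizerIn S T), (y : Ω)⁻¹ * (β y : ↥(P ⊔ centralizerIn S T)) ∈ P
  order : Nat.Coprime (orderOf β) p
  restr : ∃ α ∈ E.autGroup P, Liftable F P α ∧ ∀ (x : P) (hx : (x : Ω) ∈ P ⊔ centralizerIn S T),
    ((β ⟨x, hx⟩ : ↥(P ⊔ centralizerIn S T)) : Ω) = (α x : P)

/-- The elements of `C_S(T)` fixed by all admissible automorphisms. -/
def centLargest (F : FusionSystem S) (E : FusionSystem T) (p : ℕ) : Subgroup Ω where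
  carrier := {x | x ∈ centralizerIn S T ∧ ∀ (P : Subgroup Ω) (β : MulAut ↥(P ⊔ centralizerIn S T)),
    Adm F E p P β → ∀ hx : x ∈ P ⊔ centralizerIn S T, ((β ⟨x, hx⟩ : ↥(P ⊔ centralizerIn S T)) : Ω) = x}
  one_mem' := ⟨one_mem _, fun P β _ hx => by
    have h1 : (⟨1, hx⟩ : ↥(P ⊔ centralizerIn S T)) = 1 := rfl
    rw [h1, map_one]
    rfl⟩
  mul_mem' := by
    rintro a b ⟨ha, ha'⟩ ⟨hb, hb'⟩
    refine ⟨mul_mem ha hb, fun P β hβ hx => ?_⟩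
    have hK : centralizerIn S T ≤ P ⊔ centralizerIn S T := le_sup_right
    have h1 : (⟨a * b, hx⟩ : ↥(P ⊔ centralizerIn S T)) = ⟨a, hK ha⟩ * ⟨b, hK hb⟩ := rfl
    rw [h1, map_mul]
    show ((β ⟨a, hK ha⟩ : ↥(P ⊔ centralizerIn S T)) : Ω) * (β ⟨b, hK hb⟩ : ↥(P ⊔ centralizerIn S T)) = _
    rw [ha' P β hβ, hb' P β hβ]
  inv_mem' := by
    rintro a ⟨ha, ha'⟩
    refine ⟨inv_mem ha, fun P β hβ hx => ?_⟩
    have hK : centralizerIn S T ≤ P ⊔ centralizerIn S T := le_sup_right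
    have h1 : (⟨a⁻¹, hx⟩ : ↥(P ⊔ centralizerIn S T)) = ⟨a, hK ha⟩⁻¹ := rfl
    rw [h1, map_inv]
    show ((β ⟨a, hK ha⟩ : ↥(P ⊔ centralizerIn S T)) : Ω)⁻¹ = _
    rw [ha' P β hβ]

theorem centLargest_le (F : FusionSystem S) (E : FusionSystem T) (p : ℕ) :
    centLargest F E p ≤ centralizerIn S T := fun _ hx => hx.1

section
variable {F : FusionSystem S} {E : FusionSystem T} {P : Subgroup Ω}
  {β : MulAut ↥(P ⊔ centralizerIn S T)}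

/-- If the automorphism `α` of `P` induced by the admissible `β` fixes `u⁻¹ β(u)`, `u ∈ C_S(T)`, then `β`
fixes `u`. -/
theorem Adm.fix [Fact p.Prime] (hS : IsPGroup p S) (hTS : T ≤ S) (h : Adm F E p P β) {u : Ω}
    (huK : u ∈ P ⊔ centralizerIn S T)
    (hw : ∀ hw : u⁻¹ * ((β ⟨u, huK⟩ : ↥(P ⊔ centralizerIn S T)) : Ω) ∈ P ⊔ centralizerIn S T,
      ((β ⟨_, hw⟩ : ↥(P ⊔ centralizerIn S T)) : Ω) =
        u⁻¹ * ((β ⟨u, huK⟩ : ↥(P ⊔ centralizerIn S T)) : Ω)) :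
    ((β ⟨u, huK⟩ : ↥(P ⊔ centralizerIn S T)) : Ω) = u := by
  have hPK : P ≤ P ⊔ centralizerIn S T := le_sup_left
  have hwP := h.triv ⟨u, huK⟩
  have hw' := hw (hPK hwP)
  set w : ↥(P ⊔ centralizerIn S T) := ⟨u⁻¹ * ((β ⟨u, huK⟩ : ↥(P ⊔ centralizerIn S T)) : Ω), hPK hwP⟩
    with hwdef
  have hβw : β w = w := Subtype.ext hw'
  have hβu : β ⟨u, huK⟩ = ⟨u, huK⟩ * w := by
    apply Subtype.ext
    show _ = u * (u⁻¹ * _)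
    group
  have hpow : ∀ n : ℕ, (β ^ n) ⟨u, huK⟩ = ⟨u, huK⟩ * w ^ n := by
    intro n
    induction n with
    | zero => simp
    | succ n ih =>
      rw [pow_succ', MulAut.mul_apply, ih, map_mul, map_pow, hβw, hβu, pow_succ', mul_assoc]
  have h1 := hpow (orderOf β)
  rw [pow_orderOf_eq_one, MulAut.one_apply] at h1
  have h2 : w ^ orderOf β = 1 := (mul_eq_left.1 h1.symm)
  have hKS : P ⊔ centralizerIn S T ≤ S := sup_le (h.centric.1.trans hTS) inf_le_left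
  obtain ⟨k, hk⟩ := hS ⟨w, hKS w.2⟩
  have hk' : w ^ p ^ k = 1 := by
    apply Subtype.ext
    have h0 : (w : Ω) ^ p ^ k = 1 := congrArg (Subtype.val : S → Ω) hk
    exact h0
  have h3 : orderOf w ∣ Nat.gcd (orderOf β) (p ^ k) :=
    Nat.dvd_gcd (orderOf_dvd_of_pow_eq_one h2) (orderOf_dvd_of_pow_eq_one hk')
  have h4 : Nat.gcd (orderOf β) (p ^ k) = 1 := Nat.Coprime.pow_right k h.order
  rw [h4, Nat.dvd_one, orderOf_eq_one_iff] at h3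
  rw [hβu, h3, mul_one]

/-- For `u ∈ C_S(T)` the element `u⁻¹ β(u)` centralizes `P`. -/
theorem Adm.comm (h : Adm F E p P β) {u : Ω} (hu : u ∈ centralizerIn S T)
    (huK : u ∈ P ⊔ centralizerIn S T) {x : Ω} (hx : x ∈ P) :
    x * (u⁻¹ * ((β ⟨u, huK⟩ : ↥(P ⊔ centralizerIn S T)) : Ω)) =
      (u⁻¹ * ((β ⟨u, huK⟩ : ↥(P ⊔ centralizerIn S T)) : Ω)) * x := by
  have hPT : P ≤ T := h.centric.1
  have hPK : P ≤ P ⊔ centralizerIn S T := le_sup_left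
  have huc : ∀ y ∈ P, y * u = u * y := fun y hy => Subgroup.mem_centralizer_iff.1 hu.2 y (hPT hy)
  obtain ⟨α, hα, -, hαβ⟩ := h.restr
  have h1 : (β ⟨((α⁻¹ ⟨x, hx⟩ : P) : Ω), hPK (α⁻¹ ⟨x, hx⟩).2⟩ : ↥(P ⊔ centralizerIn S T)) =
      ⟨x, hPK hx⟩ := by
    apply Subtype.ext
    rw [hαβ (α⁻¹ ⟨x, hx⟩), MulAut.apply_inv_self]
  have h2 : (⟨((α⁻¹ ⟨x, hx⟩ : P) : Ω), hPK (α⁻¹ ⟨x, hx⟩).2⟩ : ↥(P ⊔ centralizerIn S T)) *
      ⟨u, huK⟩ = ⟨u, huK⟩ * ⟨((α⁻¹ ⟨x, hx⟩ : P) : Ω), hPK (α⁻¹ ⟨x, hx⟩).2⟩ :=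
    Subtype.ext (huc _ (α⁻¹ ⟨x, hx⟩).2)
  have h3 := congrArg β h2
  rw [map_mul, map_mul, h1] at h3
  have h4 : x * ((β ⟨u, huK⟩ : ↥(P ⊔ centralizerIn S T)) : Ω) =
      ((β ⟨u, huK⟩ : ↥(P ⊔ centralizerIn S T)) : Ω) * x := congrArg Subtype.val h3
  have h5 : x * u⁻¹ = u⁻¹ * x := by
    have := huc x hx
    calc x * u⁻¹ = u⁻¹ * (u * x) * u⁻¹ := by group
      _ = u⁻¹ * (x * u) * u⁻¹ := by rw [this]
      _ = u⁻¹ * x := by group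
  rw [← mul_assoc, h5, mul_assoc, h4, mul_assoc]

end

/-- **Maximality.** If `X ≤ C_S(T)` and `E ⊆ C_F(X)` then `X ≤ centLargest F E p`. -/
theorem le_centLargest [Fact p.Prime] [Finite S] (hS : IsPGroup p S) {F : FusionSystem S}
    (hF : F.IsSaturated p) (hTS : T ≤ S) {E : FusionSystem T} {X : Subgroup Ω}
    (hX : X ≤ centralizerIn S T) (hE : ∀ P : Subgroup Ω, E.Hom P ⊆ F.centralizerHom X P) :
    X ≤ centLargest F E p := by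
  intro x hxX
  have hxK : x ∈ centralizerIn S T := hX hxX
  refine ⟨hxK, fun P β h hx => ?_⟩
  have hPT : P ≤ T := h.centric.1
  have hPS : P ≤ S := hPT.trans hTS
  have hPK : P ≤ P ⊔ centralizerIn S T := le_sup_left
  have hKK : centralizerIn S T ≤ P ⊔ centralizerIn S T := le_sup_right
  obtain ⟨α, hα, hαl, hαβ⟩ := h.restr
  have hPX : P ≤ P ⊔ X := le_sup_left
  have hXX : X ≤ P ⊔ X := le_sup_right
  obtain ⟨-, -, -, ε, hε, hε1, hε2⟩ := hE P ((H802.mem_autGroup_iff E hPT α).1 hα)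
  have hε1' : ∀ (y : P) (hy : (y : Ω) ∈ P ⊔ X), ε ⟨y, hy⟩ = (α y : P) := fun y _ => hε1 y
  have hε2' : ∀ (y : X) (hy : (y : Ω) ∈ P ⊔ X), ε ⟨y, hy⟩ = y := fun y _ => hε2 y
  have hPXS : P ⊔ X ≤ S := H802.hom_le hε
  have hεm : ∀ y, ε y ∈ P ⊔ X := by
    intro y
    refine H759.hom_sup_mem (R := P ⊔ X) (fun z hz hz' => ?_) (fun z hz hz' => ?_) y
    · rw [hε1' ⟨z, hz⟩]
      exact hPX (α _).2
    · rw [hε2' ⟨z, hz⟩]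
      exact hz'
  have hfin : Finite ↥(P ⊔ X) := H802.finite_of_le hPXS
  obtain ⟨ρ, hρ, hρr, hρ1, hρ2⟩ := H802.exists_inv hε (H802.range_eq_of_mapsTo hε hεm)
  have hPXK : P ⊔ X ≤ P ⊔ centralizerIn S T := sup_le_sup_left hX P
  have hρm : ∀ y, ρ y ∈ P ⊔ centralizerIn S T := fun y => hPXK (hρr.le ⟨y, rfl⟩)
  obtain ⟨γ, hγ, hγe⟩ := H802.exists_comp hρ ((H802.mem_autGroup_iff F
    (sup_le hPS inf_le_left) β).1 h.mem) hρm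
  have hle : P ⊔ Subgroup.zpowers x ≤ P ⊔ X :=
    sup_le_sup_left (by rw [Subgroup.zpowers_le]; exact hxX) P
  have hxKP : x ∈ centralizerIn S P := ⟨hxK.1, Subgroup.mem_centralizer_iff.2
    fun y hy => Subgroup.mem_centralizer_iff.1 hxK.2 y (hPT hy)⟩
  have hvP := h.triv ⟨x, hx⟩
  have hρP : ∀ (y : Ω) (hy : y ∈ P), ρ ⟨y, hPX hy⟩ = (α⁻¹ ⟨y, hy⟩ : P) := by
    intro y hy
    have h1 := hε1' (α⁻¹ ⟨y, hy⟩) (hPX (α⁻¹ ⟨y, hy⟩).2)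
    rw [MulAut.apply_inv_self] at h1
    have h2 := hρ1 ⟨(α⁻¹ ⟨y, hy⟩ : P), hPX (α⁻¹ ⟨y, hy⟩).2⟩ (by rw [h1]; exact hPX hy)
    have h3 : (⟨ε ⟨(α⁻¹ ⟨y, hy⟩ : P), hPX (α⁻¹ ⟨y, hy⟩).2⟩, by rw [h1]; exact hPX hy⟩ :
        ↥(P ⊔ X)) = ⟨y, hPX hy⟩ := Subtype.ext h1
    rw [h3] at h2
    exact h2
  have hρx : ρ ⟨x, hXX hxX⟩ = x := by
    have h1 := hε2' ⟨x, hxX⟩ (hXX hxX)
    have h2 := hρ1 ⟨x, hXX hxX⟩ (by rw [h1]; exact hXX hxX)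
    have h3 : (⟨ε ⟨x, hXX hxX⟩, by rw [h1]; exact hXX hxX⟩ : ↥(P ⊔ X)) = ⟨x, hXX hxX⟩ :=
      Subtype.ext h1
    rw [h3] at h2
    exact h2
  have key := Liftable.fixes hS hF hPS hαl hxKP hvP
    (b := γ.comp (Subgroup.inclusion hle)) (H802.restrict_mem hγ hle) ?_ ?_
  · apply h.fix hS hTS
    intro hw
    rw [hαβ ⟨_, hvP⟩]
    exact key
  · intro y hy hy'
    show γ ⟨y, _⟩ = y
    rw [hγe]
    have h1 : (⟨ρ ⟨y, hle hy'⟩, hρm _⟩ : ↥(P ⊔ centralizerIn S T)) =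
        ⟨((α⁻¹ ⟨y, hy⟩ : P) : Ω), hPK (α⁻¹ ⟨y, hy⟩).2⟩ := Subtype.ext (hρP y hy)
    show ((β ⟨ρ ⟨y, hle hy'⟩, hρm _⟩ : ↥(P ⊔ centralizerIn S T)) : Ω) = y
    rw [h1, hαβ (α⁻¹ ⟨y, hy⟩), MulAut.apply_inv_self]
  · intro hy
    show γ ⟨x, _⟩ = _
    rw [hγe]
    have h1 : (⟨ρ ⟨x, hle hy⟩, hρm _⟩ : ↥(P ⊔ centralizerIn S T)) = ⟨x, hx⟩ :=
      Subtype.ext hρx
    show ((β ⟨ρ ⟨x, hle hy⟩, hρm _⟩ : ↥(P ⊔ centralizerIn S T)) : Ω) = _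
    rw [h1]
    group

/-- **Focal subgroup.** For a map `φ` of `C_F(T)` and `x` in its source, `x⁻¹ φ(x) ∈ centLargest F E p`. -/
theorem inv_mul_mem_centLargest [Fact p.Prime] [Finite S] (hS : IsPGroup p S) {F : FusionSystem S}
    (hF : F.IsSaturated p) (hTS : T ≤ S) {E : FusionSystem T} {P₀ : Subgroup Ω} {φ : P₀ →* Ω}
    (hφ : φ ∈ F.centralizerHom T P₀) (x : P₀) : (x : Ω)⁻¹ * φ x ∈ centLargest F E p := by
  obtain ⟨hφF, hP₀K, hφK, ψ, hψ, hψ1, hψ2⟩ := hφ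
  have hxK : (x : Ω) ∈ centralizerIn S T := hP₀K x.2
  have hxK' : φ x ∈ centralizerIn S T := hφK x
  refine ⟨mul_mem (inv_mem hxK) hxK', fun P β h hy => ?_⟩
  have hPT : P ≤ T := h.centric.1
  have hPS : P ≤ S := hPT.trans hTS
  have hPK : P ≤ P ⊔ centralizerIn S T := le_sup_left
  have hKK : centralizerIn S T ≤ P ⊔ centralizerIn S T := le_sup_right
  obtain ⟨α, hα, hαl, hαβ⟩ := h.restr
  have hP₀T : P₀ ≤ P₀ ⊔ T := le_sup_left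
  have hTT : T ≤ P₀ ⊔ T := le_sup_right
  have hψ1' : ∀ (y : P₀) (hy : (y : Ω) ∈ P₀ ⊔ T), ψ ⟨y, hy⟩ = φ y := fun y _ => hψ1 y
  have hψ2' : ∀ (y : Ω) (_ : y ∈ T) (hy : y ∈ P₀ ⊔ T), ψ ⟨y, hy⟩ = y := fun y hy _ => hψ2 ⟨y, hy⟩
  set x' := φ x with hx'
  have hxP : ∀ y ∈ P, y * x = x * y :=
    fun y hy => Subgroup.mem_centralizer_iff.1 hxK.2 y (hPT hy)
  have hxP' : ∀ y ∈ P, y * x' = x' * y :=
    fun y hy => Subgroup.mem_centralizer_iff.1 hxK'.2 y (hPT hy)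
  have hxKP' : x' ∈ centralizerIn S P := ⟨hxK'.1, Subgroup.mem_centralizer_iff.2 hxP'⟩
  -- notation
  set v : Ω := (x : Ω)⁻¹ * ((β ⟨x, hKK hxK⟩ : ↥(P ⊔ centralizerIn S T)) : Ω) with hv
  set v' : Ω := x'⁻¹ * ((β ⟨x', hKK hxK'⟩ : ↥(P ⊔ centralizerIn S T)) : Ω) with hv'
  have hvP : v ∈ P := h.triv ⟨x, hKK hxK⟩
  have hvP' : v' ∈ P := h.triv ⟨x', hKK hxK'⟩
  -- the inverse of `ψ` on `P ⟨x'⟩`
  obtain ⟨ρ, hρ, hρr, hρ1, hρ2⟩ := H802.exists_inv hψ rfl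
  have hV' : P ⊔ Subgroup.zpowers x' ≤ ψ.range := by
    refine sup_le (fun y hy => ⟨⟨y, hTT (hPT hy)⟩, hψ2' y (hPT hy) _⟩) ?_
    rw [Subgroup.zpowers_le]
    exact ⟨⟨x, hP₀T x.2⟩, hψ1' x _⟩
  have hρP : ∀ (y : Ω) (_ : y ∈ P) (hy : y ∈ ψ.range), ρ ⟨y, hy⟩ = y := by
    intro y hyP hy
    have h1 := hψ2' y (hPT hyP) (hTT (hPT hyP))
    have h2 := hρ1 ⟨y, hTT (hPT hyP)⟩ (by rw [h1]; exact hy)
    have h3 : (⟨ψ ⟨y, hTT (hPT hyP)⟩, by rw [h1]; exact hy⟩ : ψ.range) = ⟨y, hy⟩ := Subtype.ext h1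
    rw [h3] at h2
    exact h2
  have hρx : ∀ (hy : x' ∈ ψ.range), ρ ⟨x', hy⟩ = x := by
    intro hy
    have h1 := hψ1' x (hP₀T x.2)
    have h2 := hρ1 ⟨x, hP₀T x.2⟩ (by rw [h1]; exact hy)
    have h3 : (⟨ψ ⟨x, hP₀T x.2⟩, by rw [h1]; exact hy⟩ : ψ.range) = ⟨x', hy⟩ := Subtype.ext h1
    rw [h3] at h2
    exact h2
  set ρ' := ρ.comp (Subgroup.inclusion hV') with hρ'
  have hρ'm : ρ' ∈ F.Hom _ := H802.restrict_mem hρ hV'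
  have hρ'V : ∀ y, ρ' y ∈ P ⊔ Subgroup.zpowers (x : Ω) := by
    intro y
    refine H759.hom_sup_mem (R := P ⊔ Subgroup.zpowers (x : Ω)) (fun z hz hz' => ?_)
      (fun z hz hz' => ?_) y
    · have : ρ' ⟨z, hz'⟩ = z := hρP z hz _
      rw [this]
      exact (le_sup_left : P ≤ _) hz
    · obtain ⟨n, rfl⟩ := Subgroup.mem_zpowers_iff.1 hz
      have hx'V : x' ∈ P ⊔ Subgroup.zpowers x' :=
        (le_sup_right : _ ≤ P ⊔ Subgroup.zpowers x') (Subgroup.mem_zpowers _)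
      have h1 : (⟨x' ^ n, hz'⟩ : ↥(P ⊔ Subgroup.zpowers x')) = ⟨x', hx'V⟩ ^ n := rfl
      have h2 : ρ' ⟨x', hx'V⟩ = x := hρx _
      rw [h1, map_zpow, h2]
      exact zpow_mem ((le_sup_right : _ ≤ P ⊔ Subgroup.zpowers (x : Ω)) (Subgroup.mem_zpowers _)) n
  have hVK : P ⊔ Subgroup.zpowers (x : Ω) ≤ P ⊔ centralizerIn S T :=
    sup_le_sup_left (by rw [Subgroup.zpowers_le]; exact hxK) P
  have hVK' : P ⊔ Subgroup.zpowers x' ≤ P ⊔ centralizerIn S T :=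
    sup_le_sup_left (by rw [Subgroup.zpowers_le]; exact hxK') P
  have hKS : P ⊔ centralizerIn S T ≤ S := sup_le hPS inf_le_left
  -- `β⁻¹` on `P ⟨x⟩`
  have hβi : β⁻¹ ∈ F.autGroup (P ⊔ centralizerIn S T) := inv_mem h.mem
  have hβim := (H802.mem_autGroup_iff F hKS _).1 hβi
  have hβitriv : ∀ y : ↥(P ⊔ centralizerIn S T), (y : Ω)⁻¹ *
      ((β⁻¹ y : ↥(P ⊔ centralizerIn S T)) : Ω) ∈ P := by
    intro y
    have h1 := h.triv (β⁻¹ y)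
    rw [MulAut.apply_inv_self] at h1
    have h2 := inv_mem h1
    simpa using h2
  obtain ⟨b1, hb1, hb1e⟩ := H802.exists_comp hρ'm hβim (fun y => hVK (hρ'V y))
  have hVP₀ : P ⊔ Subgroup.zpowers (x : Ω) ≤ P₀ ⊔ T :=
    sup_le (hPT.trans hTT) (by rw [Subgroup.zpowers_le]; exact hP₀T x.2)
  have hb1V : ∀ y, b1 y ∈ P ⊔ Subgroup.zpowers (x : Ω) := by
    intro y
    rw [hb1e]
    have h1 := hβitriv ⟨ρ' y, hVK (hρ'V y)⟩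
    have h2 := mul_mem (hρ'V y) ((le_sup_left : P ≤ P ⊔ Subgroup.zpowers (x : Ω)) h1)
    simpa using h2
  obtain ⟨b2, hb2, hb2e⟩ := H802.exists_comp hb1 hψ (fun y => hVP₀ (hb1V y))
  have hψV : ∀ y : ↥(P₀ ⊔ T), (y : Ω) ∈ P ⊔ Subgroup.zpowers (x : Ω) →
      ψ y ∈ P ⊔ Subgroup.zpowers x' := by
    intro y hy
    have h1 : ∀ z : ↥(P ⊔ Subgroup.zpowers (x : Ω)), (ψ.comp (Subgroup.inclusion hVP₀)) z ∈
        P ⊔ Subgroup.zpowers x' := by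
      intro z
      refine H759.hom_sup_mem (R := P ⊔ Subgroup.zpowers x') (fun z hz hz' => ?_)
        (fun z hz hz' => ?_) z
      · have : (ψ.comp (Subgroup.inclusion hVP₀)) ⟨z, hz'⟩ = z := hψ2' z (hPT hz) _
        rw [this]
        exact (le_sup_left : P ≤ _) hz
      · obtain ⟨n, rfl⟩ := Subgroup.mem_zpowers_iff.1 hz
        have hxV : (x : Ω) ∈ P ⊔ Subgroup.zpowers (x : Ω) :=
          (le_sup_right : _ ≤ P ⊔ Subgroup.zpowers (x : Ω)) (Subgroup.mem_zpowers _)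
        have h1 : (⟨(x : Ω) ^ n, hz'⟩ : ↥(P ⊔ Subgroup.zpowers (x : Ω))) = ⟨x, hxV⟩ ^ n := rfl
        have h2 : (ψ.comp (Subgroup.inclusion hVP₀)) ⟨x, hxV⟩ = x' := hψ1' x _
        rw [h1, map_zpow, h2]
        exact zpow_mem ((le_sup_right : _ ≤ P ⊔ Subgroup.zpowers x') (Subgroup.mem_zpowers _)) n
    exact h1 ⟨y, hy⟩
  have hb2V : ∀ y, b2 y ∈ P ⊔ centralizerIn S T := by
    intro y
    rw [hb2e]
    exact hVK' (hψV _ (hb1V y))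
  obtain ⟨γ, hγ, hγe⟩ := H802.exists_comp hb2 ((H802.mem_autGroup_iff F hKS β).1 h.mem) hb2V
  -- values of `γ`
  have hγP : ∀ (y : Ω) (_ : y ∈ P) (hy' : y ∈ P ⊔ Subgroup.zpowers x'), γ ⟨y, hy'⟩ = y := by
    intro y hy hy'
    have h1 : ρ' ⟨y, hy'⟩ = y := hρP y hy _
    have hαi : ((β⁻¹ ⟨y, hPK hy⟩ : ↥(P ⊔ centralizerIn S T)) : Ω) ∈ P := by
      have h3 := mul_mem hy (hβitriv ⟨y, hPK hy⟩)
      simpa using h3
    have h2 : b1 ⟨y, hy'⟩ = ((β⁻¹ ⟨y, hPK hy⟩ : ↥(P ⊔ centralizerIn S T)) : Ω) := by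
      rw [hb1e]
      show ((β⁻¹ ⟨ρ' ⟨y, hy'⟩, _⟩ : ↥(P ⊔ centralizerIn S T)) : Ω) = _
      congr 2
      exact Subtype.ext h1
    have h3 : b2 ⟨y, hy'⟩ = ((β⁻¹ ⟨y, hPK hy⟩ : ↥(P ⊔ centralizerIn S T)) : Ω) := by
      rw [hb2e]
      have h4 := hψ2' _ (hPT hαi) (hTT (hPT hαi))
      refine Eq.trans ?_ h4
      congr 1
      exact Subtype.ext h2
    rw [hγe]
    show ((β ⟨b2 ⟨y, hy'⟩, _⟩ : ↥(P ⊔ centralizerIn S T)) : Ω) = y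
    have h5 : (⟨b2 ⟨y, hy'⟩, hb2V _⟩ : ↥(P ⊔ centralizerIn S T)) = β⁻¹ ⟨y, hPK hy⟩ :=
      Subtype.ext h3
    rw [h5, MulAut.apply_inv_self]
  have hγx : ∀ hy' : x' ∈ P ⊔ Subgroup.zpowers x', γ ⟨x', hy'⟩ = x' * (v' * v⁻¹) := by
    intro hy'
    have h1 : ρ' ⟨x', hy'⟩ = x := hρx _
    set t : Ω := (x : Ω)⁻¹ * ((β⁻¹ ⟨x, hKK hxK⟩ : ↥(P ⊔ centralizerIn S T)) : Ω) with ht
    have htP : t ∈ P := hβitriv ⟨x, hKK hxK⟩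
    have h2 : b1 ⟨x', hy'⟩ = x * t := by
      rw [hb1e]
      show ((β⁻¹ ⟨ρ' ⟨x', hy'⟩, _⟩ : ↥(P ⊔ centralizerIn S T)) : Ω) = _
      have h3 : (⟨ρ' ⟨x', hy'⟩, hVK (hρ'V _)⟩ : ↥(P ⊔ centralizerIn S T)) = ⟨x, hKK hxK⟩ :=
        Subtype.ext h1
      rw [h3, ht]
      group
    have h3 : b2 ⟨x', hy'⟩ = x' * t := by
      rw [hb2e]
      have h4 : (⟨b1 ⟨x', hy'⟩, hVP₀ (hb1V _)⟩ : ↥(P₀ ⊔ T)) =
          ⟨x, hP₀T x.2⟩ * ⟨t, hTT (hPT htP)⟩ := Subtype.ext h2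
      rw [h4, map_mul, hψ1' x, hψ2' t (hPT htP)]
    rw [hγe]
    show ((β ⟨b2 ⟨x', hy'⟩, _⟩ : ↥(P ⊔ centralizerIn S T)) : Ω) = _
    have h5 : (⟨b2 ⟨x', hy'⟩, hb2V _⟩ : ↥(P ⊔ centralizerIn S T)) =
        ⟨x', hKK hxK'⟩ * (⟨x, hKK hxK⟩⁻¹ * β⁻¹ ⟨x, hKK hxK⟩) := Subtype.ext h3
    rw [h5, map_mul, map_mul, map_inv, MulAut.apply_inv_self]
    show ((β ⟨x', hKK hxK'⟩ : ↥(P ⊔ centralizerIn S T)) : Ω) *
      (((β ⟨x, hKK hxK⟩ : ↥(P ⊔ centralizerIn S T)) : Ω)⁻¹ * x) = _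
    rw [hv', hv]
    group
  have hwP : v' * v⁻¹ ∈ P := mul_mem hvP' (inv_mem hvP)
  have key := Liftable.fixes hS hF hPS hαl hxKP' hwP hγ hγP hγx
  -- conclusion
  have hcomm : v * v' = v' * v := h.comm hxK' (hKK hxK') hvP
  have hyβ : ((x : Ω)⁻¹ * x')⁻¹ * ((β ⟨(x : Ω)⁻¹ * x', hy⟩ : ↥(P ⊔ centralizerIn S T)) : Ω) =
      v' * v⁻¹ := by
    have h1 : (⟨(x : Ω)⁻¹ * x', hy⟩ : ↥(P ⊔ centralizerIn S T)) =
        ⟨x, hKK hxK⟩⁻¹ * ⟨x', hKK hxK'⟩ := rfl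
    rw [h1, map_mul, map_inv]
    show ((x : Ω)⁻¹ * x')⁻¹ * (((β ⟨x, hKK hxK⟩ : ↥(P ⊔ centralizerIn S T)) : Ω)⁻¹ *
      ((β ⟨x', hKK hxK'⟩ : ↥(P ⊔ centralizerIn S T)) : Ω)) = _
    have h2 : ((β ⟨x, hKK hxK⟩ : ↥(P ⊔ centralizerIn S T)) : Ω) = x * v := by
      rw [hv]; group
    have h3 : ((β ⟨x', hKK hxK'⟩ : ↥(P ⊔ centralizerIn S T)) : Ω) = x' * v' := by
      rw [hv']; group
    rw [h2, h3]
    have h4 := hxP v⁻¹ (inv_mem hvP)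
    have h5 := hxP' v⁻¹ (inv_mem hvP)
    calc ((x : Ω)⁻¹ * x')⁻¹ * ((x * v)⁻¹ * (x' * v')) = x'⁻¹ * (x * v⁻¹) * (x : Ω)⁻¹ * x' * v' := by
          group
      _ = x'⁻¹ * (v⁻¹ * x) * (x : Ω)⁻¹ * x' * v' := by rw [h4]
      _ = x'⁻¹ * (v⁻¹ * x') * v' := by group
      _ = x'⁻¹ * (x' * v⁻¹) * v' := by rw [h5]
      _ = v⁻¹ * v' := by group
      _ = v⁻¹ * (v' * v) * v⁻¹ := by group
      _ = v⁻¹ * (v * v') * v⁻¹ := by rw [hcomm]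
      _ = v' * v⁻¹ := by group
  apply h.fix hS hTS
  intro hw
  have h6 : (⟨((x : Ω)⁻¹ * x')⁻¹ * ((β ⟨(x : Ω)⁻¹ * x', hy⟩ : ↥(P ⊔ centralizerIn S T)) : Ω), hw⟩ :
      ↥(P ⊔ centralizerIn S T)) = ⟨v' * v⁻¹, hPK hwP⟩ := Subtype.ext hyβ
  rw [h6, hyβ, hαβ ⟨_, hwP⟩]
  exact key

end Cfsg.Agent.H792
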