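import Cfsg.Agent.H792.SpNoT
import Cfsg.Agent.S2791

/-!
# Strongly closed abelian subgroups and the normaliser of a Sylow subgroup (helper792)

`nfus_of_abelian` : `Z ≤ S` abelian and strongly closed with `N_G(Z) ≤ N_G(S)`: `N_G(S)` controls fusion.
`normalizer_le` : `S ≤ C_G(Z) ≤ N_G(S)` implies `N_G(Z) ≤ N_G(S)`.
-/

set_option autoImplicit false
set_option linter.unusedSectionVars false

namespace Cfsg.Agent.H792.SpCube

open Subgroup Cfsg Cfsg.Agent.H749 Cfsg.Agent.H792.SpTool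

variable {p : ℕ} [hp : Fact p.Prime] {G : Type*} [Group G] [Finite G]

theorem nfus_of_abelian (S : Sylow p G) (Z : Subgroup G) (hc : IsMulCommutative Z)
    (hZ : IsStronglyClosed Z (S : Subgroup G))
    (hN : normalizer (Z : Set G) ≤ normalizer ((S : Subgroup G) : Set G)) : H794.NFus p G := by
  obtain ⟨T, hZT, hT⟩ := S2791.result S Z hc hZ
  obtain ⟨g, rfl⟩ := MulAction.exists_smul_eq G S T
  have h1 : ∀ z ∈ Z, g⁻¹ * z * g ∈ Z := by
    intro z hz
    have h2 := mem_smul.1 (hZT hz)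
    have h3 := hZ.2 z hz g⁻¹ (by rwa [inv_inv])
    rwa [inv_inv] at h3
  have h2 : Z.map (MulAut.conj g⁻¹).toMonoidHom = Z := by
    refine Subgroup.eq_of_le_of_card_ge ?_ (by rw [card_map_conj])
    rintro _ ⟨z, hz, rfl⟩
    have := h1 z hz
    show g⁻¹ * z * g⁻¹⁻¹ ∈ Z
    rwa [inv_inv]
  have hg : g ∈ normalizer (Z : Set G) := by
    rw [mem_normalizer_iff]
    intro z
    constructor
    · intro hz
      rw [← h2] at hz
      obtain ⟨y, hy, rfl⟩ := hz
      show g * (g⁻¹ * y * g⁻¹⁻¹) * g⁻¹ ∈ Z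
      rwa [show g * (g⁻¹ * y * g⁻¹⁻¹) * g⁻¹ = y by group]
    · intro hz
      have := h1 _ hz
      rwa [show g⁻¹ * (g * z * g⁻¹) * g = z by group] at this
  have hgS := mem_normalizer_iff.1 (hN hg)
  have hTS : ∀ x : G, x ∈ ((g • S : Sylow p G) : Subgroup G) ↔ x ∈ (S : Subgroup G) := by
    intro x
    rw [mem_smul, hgS, show g * (g⁻¹ * x * g) * g⁻¹ = x by group]
  refine nfus_of_one S fun B hB k hk => ?_
  obtain ⟨-, h3⟩ := hT (B : Set G) (fun x hx => (hTS x).2 (hB hx))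
  obtain ⟨n, hn, hnx⟩ := h3 k (by
    rintro _ ⟨x, hx, rfl⟩
    exact (hTS _).2 (hk x hx))
  exact ⟨n, hN hn, fun x hx => (hnx x hx).symm⟩

theorem normalizer_le (S : Sylow p G) (Z : Subgroup G) (hS : (S : Subgroup G) ≤ centralizer (Z : Set G))
    (hC : centralizer (Z : Set G) ≤ normalizer ((S : Subgroup G) : Set G)) :
    normalizer (Z : Set G) ≤ normalizer ((S : Subgroup G) : Set G) := by
  intro n hn
  have key : ∀ m ∈ normalizer (Z : Set G), ∀ s ∈ (S : Subgroup G), m * s * m⁻¹ ∈ (S : Subgroup G) := by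
    intro m hm s hs
    have h1 : m * s * m⁻¹ ∈ centralizer (Z : Set G) := by
      rw [mem_centralizer_iff]
      intro z hz
      have h2 : m⁻¹ * z * m ∈ (Z : Set G) := by
        have := (mem_normalizer_iff.1 (inv_mem hm) z).1 hz
        rwa [inv_inv] at this
      have h3 := mem_centralizer_iff.1 (hS hs) _ h2
      calc z * (m * s * m⁻¹) = m * ((m⁻¹ * z * m) * s) * m⁻¹ := by group
        _ = m * (s * (m⁻¹ * z * m)) * m⁻¹ := by rw [h3]
        _ = m * s * m⁻¹ * z := by group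
    have h2 : IsPGroup p (zpowers (m * s * m⁻¹)) := by
      have h3 : PEl p s := PEl.of_isPGroup S.2 hs
      exact isPGroup_zpowers (h3.conj m)
    have h3 : IsPGroup p ↥(zpowers (m * s * m⁻¹) ⊔ (S : Subgroup G)) :=
      IsPGroup.to_sup_of_normal_right' h2 S.2 (by rw [zpowers_le]; exact hC h1)
    have h4 := S.3 h3 le_sup_right
    rw [← h4]
    exact (le_sup_left : zpowers (m * s * m⁻¹) ≤ _) (mem_zpowers _)
  rw [mem_normalizer_iff]
  intro s
  refine ⟨key n hn s, fun hs => ?_⟩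
  have := key n⁻¹ (inv_mem hn) _ hs
  rwa [show n⁻¹ * (n * s * n⁻¹) * n⁻¹⁻¹ = s by group] at this

end Cfsg.Agent.H792.SpCube
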