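import Cfsg.Agent.H792.SpTool
import Cfsg.Agent.H794.DefClosed
import Cfsg.Agent.H998.StrP.PureRows

/-!
# Rows `FullP p G` from groups of Lie type in characteristic `p` (helper792)

* `strongly_of_ti` : `TI p G` gives a strongly `p`-embedded subgroup;
* `fullP_of_noSP` : simple groups of Lie type in characteristic `p ≠ 2` without strongly `p`-embedded subgroup;
* `fullP_of_lie_of_card` : the arithmetic version.
-/

set_option autoImplicit false

namespace Cfsg.Agent.H792.SpLie

open Subgroup Cfsg Cfsg.Agent.H749 Cfsg.Agent.H794 Cfsg.Agent.H998.StrP Cfsg.Agent.EvenType.StrongP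

theorem strongly_of_ti {p : ℕ} [hp : Fact p.Prime] {G : Type*} [Group G] [Finite G] (h : TI p G)
    (hG : p ∣ Nat.card G) (S : Sylow p G) (hS : normalizer ((S : Subgroup G) : Set G) ≠ ⊤) :
    IsStronglyPEmbedded p (normalizer ((S : Subgroup G) : Set G)) := by
  have hle : (S : Subgroup G) ≤ normalizer ((S : Subgroup G) : Set G) := le_normalizer
  refine of_normIn ((S.dvd_card_of_dvd_card hG).trans (card_dvd_of_le hle)) hS ?_
  intro Q hQ hQY hQ1 y hy
  -- `Q ≤ S`
  have hQS : Q ≤ (S : Subgroup G) := by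
    have h1 : IsPGroup p ↥(Q ⊔ (S : Subgroup G)) := by
      refine IsPGroup.to_sup_of_normal_right' hQ S.2 ?_
      exact hQY
    have h2 := S.3 h1 le_sup_right
    rw [← h2]
    exact le_sup_left
  obtain ⟨x, hx, hx1⟩ := Q.bot_or_exists_ne_one.resolve_left hQ1
  exact h S x (hQS hx) hx1 y (hQS ((mem_normalizer_iff.1 hy x).1 hx))

theorem fullP_of_noSP {p : ℕ} [hp : Fact p.Prime] (hp2 : p ≠ 2) {G : Type*} [Group G] [Finite G] [IsSimpleGroup G]
    (hG : ¬ IsMulCommutative G) (h : IsLieTypeChar p G) (hN : NoSP p G) : FullP p G := by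
  rcases DefClosed.full_or_ti hp2 hG h with h1 | h1
  · exact SpTool.fullP_of_full h1
  by_contra hn
  obtain ⟨S⟩ : Nonempty (Sylow p G) := inferInstance
  by_cases hpG : p ∣ Nat.card G
  · refine hN _ (strongly_of_ti h1 hpG S fun h2 => ?_)
    have h3 : (S : Subgroup G).Normal := normalizer_eq_top_iff.1 h2
    rcases h3.eq_bot_or_eq_top with h4 | h4
    · have h5 := S.dvd_card_of_dvd_card hpG
      rw [h4, card_bot] at h5
      exact hp.out.one_lt.ne' (Nat.dvd_one.1 h5)
    · have h5 : IsPGroup p G := by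
        have h6 : IsPGroup p ↥(⊤ : Subgroup G) := h4 ▸ S.2
        exact h6.of_equiv Subgroup.topEquiv
      have : Nontrivial G := IsSimpleGroup.toNontrivial
      have h7 := h5.center_nontrivial
      rcases (inferInstance : (center G).Normal).eq_bot_or_eq_top with h8 | h8
      · rw [h8] at h7
        obtain ⟨a, b, hab⟩ := h7
        exact hab (Subtype.ext ((mem_bot.1 a.2).trans (mem_bot.1 b.2).symm))
      · exact hG ⟨⟨fun a b => ((mem_center_iff.1 (h8 ▸ mem_top a : a ∈ center G)) b).symm⟩⟩
  · have h3 := (SpTool.fullP_of_card (p := p) (G := G) fun h4 => hpG ((dvd_pow_self p two_ne_zero).trans h4))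
    exact hn h3

theorem fullP_of_lie_of_card {p : ℕ} [hp : Fact p.Prime] (hp2 : p ≠ 2) {G : Type*} [Group G] [Finite G]
    (hs : IsSimpleGroup G) (h : IsLieTypeChar p G) {a : ℕ} (l : List (ℕ × ℕ)) (hl : ∀ q ∈ l, Nat.Prime q.1)
    (ha0 : a ≠ 0) (hcard : Nat.card G = p ^ a * val l) (hc : chk (p ^ a) l = true) : FullP p G := by
  by_cases hG : IsMulCommutative G
  · have h1 : (Nat.card G).Prime := by
      have hcm : ∀ a b : G, a * b = b * a := hG.1.1
      let _ : CommGroup G := { (inferInstance : Group G) with mul_comm := hcm }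
      exact IsSimpleGroup.prime_card
    refine SpTool.fullP_of_card fun h2 => ?_
    have h3 : p ∣ Nat.card G := (dvd_pow_self p two_ne_zero).trans h2
    have h4 : p = Nat.card G := (Nat.prime_dvd_prime_iff_eq hp.out h1).1 h3
    rw [← h4] at h2
    have h5 := Nat.le_of_dvd hp.out.pos h2
    have h6 := hp.out.one_lt
    nlinarith
  · exact fullP_of_noSP hp2 hG h (noSP_of_card l hl ha0 hcard hc)

end Cfsg.Agent.H792.SpLie
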